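import Groth.Agent.MultBridge.Sub
import Groth.Agent.MultFib.Main
import Groth.Agent.S2973
import Groth.Agent.QuotTorus.Prop
import Groth.Agent.MultKer.Descend
import Groth.Agent.MultType.Cocomm
/-!
An affine base: groups of multiplicative type of finite type and their coordinate rings.
-/

set_option autoImplicit false
set_option backward.isDefEq.respectTransparency false
set_option backward.isDefEq.respectTransparency.types false
set_option linter.style.haveILetI false
set_option linter.unusedSectionVars false

universe u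

open CategoryTheory CategoryTheory.Limits MonoidalCategory CartesianMonoidalCategory MonObj GrpObj AlgebraicGeometry TensorProduct
open scoped TensorProduct

noncomputable section

namespace Groth.Agent.SmoothHomLift

open TorusField MultBridge

variable {R : Type u} [CommRing R] {H : Over (Spec (CommRingCat.of R))} [GrpObj H]

/-- Locally of finite type forces finitely generated character groups. -/
theorem isMultTypeFT_of_loc (hH : WeilClosedLib.IsMultTypeLoc H) [LocallyOfFiniteType H.hom] :
    SGA3x.IsMultTypeFT H := by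
  haveI : IsAffineHom H.hom := FixedSmooth.isAffineHom_of_isMultTypeLoc hH
  obtain ⟨A, _, _, ⟨e⟩⟩ := MultBridge.exists_hopf R H
  obtain ⟨eid⟩ := QuotTorus.nonempty_bcId_iso H
  haveI : Algebra.FiniteType R A := by
    have h := prop_algebraMap e @LocallyOfFiniteType inferInstance
    rw [HasRingHomProperty.Spec_iff (P := @LocallyOfFiniteType)] at h
    exact RingHom.finiteType_algebraMap.1 h
  obtain ⟨S', f, hfl, hsurj, hqc, hloc⟩ := hH
  refine ⟨S', f, hfl, hsurj, hqc, fun s' => ?_⟩
  obtain ⟨U, hsU, M, _, ⟨eM⟩⟩ := hloc s'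
  obtain ⟨W, hW, hsW, hWU⟩ := exists_isAffineOpen_mem_and_subset (x := s') (U := U) hsU
  let B := Γ(S', W)
  let c : Spec B ⟶ Spec (CommRingCat.of R) := hW.fromSpec ≫ f
  letI : Algebra R B := (Spec.preimage c).hom.toAlgebra
  have hc : Spec.map (CommRingCat.ofHom (algebraMap R B)) = c := Spec.map_preimage c
  haveI : Nontrivial B := by
    obtain ⟨P, -⟩ : s' ∈ Set.range hW.fromSpec := by rw [hW.range_fromSpec]; exact hsW
    exact PrimeSpectrum.nonempty_iff_nontrivial.1 ⟨P⟩
  let k : Spec B ⟶ U.toScheme := hW.isoSpec.inv ≫ S'.homOfLE hWU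
  obtain ⟨e'⟩ := split_comp (H := H) eM k (d := c) (by
    show (hW.isoSpec.inv ≫ S'.homOfLE hWU) ≫ U.ι ≫ f = (hW.isoSpec.inv ≫ W.ι) ≫ f
    rw [Category.assoc, Scheme.homOfLE_ι_assoc, Category.assoc])
  have hd := isDiag_of_split (eA := e ≪≫ eid.symm) B (d := c) (by rw [hc, Category.comp_id]) e'
  obtain ⟨eB⟩ := nonempty_bialgEquiv ((dsIso B M).symm ≪≫ e'.symm ≪≫
    (chartIso (e ≪≫ eid.symm) B (d := c) (by rw [hc, Category.comp_id])).symm)
  haveI : Group.FG (ULift.{u} (Multiplicative M)) := MultType.fg_of_finiteType (R := R) inferInstance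
    (eB.trans (MonoidAlgebra.domCongrBialgEquiv B B MulEquiv.ulift.symm))
  have hM : AddGroup.FG M := by
    haveI : Group.FG (Multiplicative M) :=
      Group.fg_of_surjective (f := (MulEquiv.ulift : ULift.{u} (Multiplicative M) ≃* Multiplicative M).toMonoidHom)
        (MulEquiv.surjective _)
    exact AddGroup.fg_iff_mul_fg.2 inferInstance
  refine ⟨W, hsW, M, inferInstance, hM, ?_⟩
  exact split_comp (H := H) eM (S'.homOfLE hWU) (by rw [Scheme.homOfLE_ι_assoc])

/-- The coordinate ring of a group of multiplicative type and finite type. -/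
theorem isMultType_of_FT (hH : SGA3x.IsMultTypeFT H) {A : Type u} [CommRing A] [HopfAlgebra R A]
    (e : specGrp R A ≅ Grp.mk H) : Algebra.FiniteType R A ∧ SGA3b.IsMultType R A := by
  haveI : LocallyOfFinitePresentation H.hom := FixedSmooth.locallyOfFinitePresentation_of_isMultTypeFT hH
  obtain ⟨eid⟩ := QuotTorus.nonempty_bcId_iso H
  haveI : Algebra.FinitePresentation R A := by
    have h := prop_algebraMap e @LocallyOfFinitePresentation inferInstance
    rw [HasRingHomProperty.Spec_iff (P := @LocallyOfFinitePresentation)] at h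
    exact RingHom.finitePresentation_algebraMap.1 h
  haveI : IsAffineHom H.hom := FixedSmooth.isAffineHom_of_isMultTypeLoc (.of_isMultTypeFT hH)
  haveI : Module.Flat R A := by
    haveI : Flat H.hom := MultKer.flat_hom_of_isMultTypeFT hH
    have h := prop_algebraMap e @Flat inferInstance
    rw [HasRingHomProperty.Spec_iff (P := @Flat)] at h
    exact RingHom.flat_algebraMap_iff.1 h
  refine ⟨inferInstance, MultFib.isMultType_of_etale_splits fun p => ?_⟩
  obtain ⟨B, _, _, P, _, _, _, hd⟩ := exists_flat_split (e ≪≫ eid.symm) hH p.asIdeal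
  exact exists_etale_split_of_quot (BialgHom.id R A) Function.surjective_id p.asIdeal B P hd

/-- Quasi-isotrivial groups are of multiplicative type. -/
theorem isMultType_of_qi {A : Type u} [CommRing A] [HopfAlgebra R A] (h : SGA3b.IsQuasiIsotrivial R A) :
    SGA3b.IsMultType R A := by
  obtain ⟨s, hs, h⟩ := h
  refine ⟨s, hs, fun f hf => ?_⟩
  obtain ⟨R', _, _, -, hff, hd⟩ := h f hf
  exact ⟨R', inferInstance, inferInstance, hff, hd⟩

end Groth.Agent.SmoothHomLift
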