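import Groth.Agent.SmoothHomLift.Points
import Mathlib.AlgebraicGeometry.Morphisms.Immersion
import Mathlib.RingTheory.Localization.AtPrime.Basic
import Mathlib.RingTheory.TensorProduct.Quotient
/-!
A morphism out of an affine scheme which is an immersion modulo a nilpotent ideal of the base is an immersion.
-/

set_option autoImplicit false
set_option backward.isDefEq.respectTransparency false
set_option backward.isDefEq.respectTransparency.types false
set_option linter.style.haveILetI false
set_option linter.unusedSectionVars false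

universe u

open CategoryTheory CategoryTheory.Limits AlgebraicGeometry
open TensorProduct
open scoped TensorProduct

noncomputable section

namespace Groth.Agent.SmoothHomLift

variable {R : Type u} [CommRing R] (J : Ideal R) (hJ : IsNilpotent J)

include hJ

/-- Surjectivity on stalks is seen modulo a nilpotent ideal of the base. -/
theorem surjectiveOnStalks_of_mod {A B A₀ : Type u} [CommRing A] [Algebra R A] [CommRing B] [Algebra R B]
    [CommRing A₀] (φ : B →ₐ[R] A) (q : A →+* A₀) (hq : Function.Surjective q)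
    (hker : RingHom.ker q ≤ J.map (algebraMap R A)) (h : (q.comp φ.toRingHom).SurjectiveOnStalks) :
    φ.toRingHom.SurjectiveOnStalks := by
  intro P hP
  obtain ⟨n, hn⟩ := hJ
  have hJP : J.map (algebraMap R A) ≤ P := by
    refine Ideal.map_le_iff_le_comap.2 fun x hx => ?_
    refine (hP.mem_of_pow_mem n ?_ : algebraMap R A x ∈ P)
    rw [← map_pow, show x ^ n = 0 from (Ideal.mem_bot).1 (hn.le (Ideal.pow_mem_pow hx n)), map_zero]
    exact P.zero_mem
  have hkP : RingHom.ker q ≤ P := hker.trans hJP
  let P₀ := P.map q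
  haveI : P₀.IsPrime := Ideal.map_isPrime_of_surjective hq hkP
  have hP₀ : ∀ a, q a ∈ P₀ ↔ a ∈ P := fun a => by
    refine ⟨fun ha => ?_, Ideal.mem_map_of_mem q⟩
    obtain ⟨b, hb, hab⟩ := (Ideal.mem_map_iff_of_surjective q hq).1 ha
    rw [show a = b + (a - b) by ring]
    exact P.add_mem hb (hkP (by rw [RingHom.mem_ker, map_sub, hab, sub_self]))
  let L := Localization.AtPrime P
  let Φ := Localization.localRingHom (P.comap φ.toRingHom) P φ.toRingHom rfl
  let JL : ℕ → Submodule R L := fun k => J ^ k • (⊤ : Submodule R L)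
  have hJL : ∀ z ∈ J.map (algebraMap R A), algebraMap A L z ∈ JL 1 := fun z hz => by
    have hz' : z ∈ J • (⊤ : Submodule R A) := by rw [Ideal.smul_top_eq_map]; exact hz
    have h2 : (IsScalarTower.toAlgHom R A L).toLinearMap z ∈
        Submodule.map (IsScalarTower.toAlgHom R A L).toLinearMap (J • ⊤) := ⟨z, hz', rfl⟩
    rw [Submodule.map_smul''] at h2
    show _ ∈ J ^ 1 • (⊤ : Submodule R L)
    rw [pow_one]
    exact Submodule.smul_mono le_rfl le_top h2
  have hmul : ∀ k (x : L) y, y ∈ JL k → x * y ∈ JL k := fun k x y hy => by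
    refine Submodule.smul_induction_on hy (fun r hr z _ => ?_) (fun a b ha hb => ?_)
    · rw [mul_smul_comm]; exact Submodule.smul_mem_smul hr Submodule.mem_top
    · rw [mul_add]; exact Submodule.add_mem _ ha hb
  have hmax : ∀ y ∈ JL 1, y ∈ IsLocalRing.maximalIdeal L := fun y hy => by
    refine Submodule.smul_induction_on hy (fun r hr z _ => ?_) (fun a b ha hb => Ideal.add_mem _ ha hb)
    rw [pow_one] at hr
    rw [Algebra.smul_def, IsScalarTower.algebraMap_apply R A L]
    refine Ideal.mul_mem_right _ _ ?_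
    rw [IsLocalization.AtPrime.to_map_mem_maximal_iff L P]
    exact hJP (Ideal.mem_map_of_mem _ hr)
  -- elements of `A`
  have hA : ∀ a : A, ∃ b, algebraMap A L a - Φ b ∈ JL 1 := by
    intro a
    obtain ⟨x, r, c₀, hc₀, hr, e⟩ := (RingHom.surjective_localRingHom_iff P₀).1 (h P₀ inferInstance) (q a)
    obtain ⟨c, rfl⟩ := hq c₀
    have hc : c ∉ P := fun h' => hc₀ ((hP₀ c).2 h')
    have hr' : φ r ∉ P := fun h' => hr ((hP₀ _).2 h')
    have hmem : c * φ r * a - c * φ x ∈ J.map (algebraMap R A) := hker (by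
      rw [RingHom.mem_ker, map_sub, map_mul, map_mul, map_mul, sub_eq_zero]
      exact e)
    refine ⟨IsLocalization.mk' _ x (⟨r, fun h' => hr' h'⟩ : (P.comap φ.toRingHom).primeCompl), ?_⟩
    have hu : IsUnit (algebraMap A L (c * φ r)) :=
      IsLocalization.map_units L (⟨c * φ r, fun h' => (hP.mem_or_mem h').elim hc hr'⟩ : P.primeCompl)
    obtain ⟨v, hv⟩ := hu.exists_left_inv
    have key : algebraMap A L a - Φ (IsLocalization.mk' _ x (⟨r, fun h' => hr' h'⟩ : (P.comap φ.toRingHom).primeCompl)) =
        v * algebraMap A L (c * φ r * a - c * φ x) := by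
      rw [Localization.localRingHom_mk']
      let m : L := IsLocalization.mk' L (φ.toRingHom x) (⟨φ r, hr'⟩ : P.primeCompl)
      show algebraMap A L a - m = _
      have hm' : m * algebraMap A L (φ r) = algebraMap A L (φ x) := IsLocalization.mk'_spec L _ _
      calc algebraMap A L a - m = v * algebraMap A L (c * φ r) * (algebraMap A L a - m) := by rw [hv, one_mul]
        _ = _ := by
          rw [map_sub, map_mul, map_mul, map_mul, map_mul, ← hm']
          ring
    rw [key]
    exact hmul 1 v _ (hJL _ hmem)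
  have h1 : ∀ y : L, ∃ b, y - Φ b ∈ JL 1 := by
    intro y
    obtain ⟨a, t, rfl⟩ := IsLocalization.exists_mk'_eq P.primeCompl y
    obtain ⟨ba, hba⟩ := hA a
    obtain ⟨bt, hbt⟩ := hA t
    have hu : IsUnit (Φ bt) := by
      by_contra hn
      have hmem : algebraMap A L t ∈ IsLocalRing.maximalIdeal L := by
        rw [show algebraMap A L t = (algebraMap A L t - Φ bt) + Φ bt by ring]
        exact Ideal.add_mem _ (hmax _ hbt) ((IsLocalRing.mem_maximalIdeal _).2 hn)
      rw [IsLocalization.AtPrime.to_map_mem_maximal_iff L P] at hmem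
      exact t.2 hmem
    obtain ⟨v, hv⟩ := ((isUnit_map_iff Φ bt).1 hu).exists_left_inv
    refine ⟨ba * v, ?_⟩
    have hv' : Φ v * Φ bt = 1 := by rw [← map_mul, hv, map_one]
    have hy : IsLocalization.mk' L a t * algebraMap A L t = algebraMap A L a := IsLocalization.mk'_spec L _ _
    have key : IsLocalization.mk' L a t - Φ (ba * v) =
        Φ v * ((algebraMap A L a - Φ ba) - IsLocalization.mk' L a t * (algebraMap A L t - Φ bt)) := by
      rw [map_mul, mul_sub (IsLocalization.mk' L a t), hy]
      linear_combination -(IsLocalization.mk' L a t) * hv'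
    rw [key]
    exact hmul 1 _ _ (Submodule.sub_mem _ hba (hmul 1 _ _ hbt))
  have hΦr : ∀ (r : R) b, Φ (algebraMap R _ r * b) = r • Φ b := fun r b => by
    rw [map_mul, Algebra.smul_def, IsScalarTower.algebraMap_apply R B (Localization.AtPrime (P.comap φ.toRingHom)),
      Localization.localRingHom_to_map, IsScalarTower.algebraMap_apply R A L]
    congr 2
    exact φ.commutes r
  have hk : ∀ k (y : L), ∃ b, y - Φ b ∈ JL k := by
    intro k
    induction k with
    | zero => exact fun y => ⟨0, by show _ ∈ J ^ 0 • (⊤ : Submodule R L); rw [pow_zero, Submodule.one_smul]; trivial⟩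
    | succ k ih =>
      intro y
      obtain ⟨b, hb⟩ := ih y
      suffices H : ∀ z ∈ JL k, ∃ b', z - Φ b' ∈ JL (k + 1) by
        obtain ⟨b', hb'⟩ := H _ hb
        exact ⟨b + b', by rwa [map_add, ← sub_sub]⟩
      intro z hz
      refine Submodule.smul_induction_on hz (fun r hr w _ => ?_) (fun u v hu hv => ?_)
      · obtain ⟨b', hb'⟩ := h1 w
        refine ⟨algebraMap R _ r * b', ?_⟩
        rw [hΦr, ← smul_sub]
        show _ ∈ J ^ (k + 1) • (⊤ : Submodule R L)
        rw [pow_succ, Submodule.mul_smul]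
        have hb'' : w - Φ b' ∈ J • (⊤ : Submodule R L) := by
          have := hb'
          simpa [JL, pow_one] using this
        exact Submodule.smul_mem_smul hr hb''
      · obtain ⟨b₁, hb₁⟩ := hu
        obtain ⟨b₂, hb₂⟩ := hv
        exact ⟨b₁ + b₂, by rw [map_add, add_sub_add_comm]; exact Submodule.add_mem _ hb₁ hb₂⟩
  intro y
  obtain ⟨b, hb⟩ := hk n y
  refine ⟨b, (sub_eq_zero.1 ?_).symm⟩
  have hb' : y - Φ b ∈ J ^ n • (⊤ : Submodule R L) := hb
  rw [hn] at hb'
  rw [show (0 : Ideal R) • (⊤ : Submodule R L) = ⊥ from Submodule.bot_smul _, Submodule.mem_bot] at hb'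
  exact hb'

/-- An immersion modulo `J` is an immersion. -/
theorem isImmersion_of_mod {A : Type u} [CommRing A] [Algebra R A] {Y : Over (Spec (CommRingCat.of R))}
    (f : pt R A ⟶ Y)
    (h : IsImmersion (Spec.map (CommRingCat.ofHom (Algebra.TensorProduct.includeRight : A →ₐ[R] (R ⧸ J) ⊗[R] A).toRingHom) ≫ f.left)) :
    IsImmersion f.left := by
  let incR : A →ₐ[R] (R ⧸ J) ⊗[R] A := Algebra.TensorProduct.includeRight
  let ψ := Spec.map (CommRingCat.ofHom incR.toRingHom)
  have hsurj : Function.Surjective incR := fun z => by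
    induction z using TensorProduct.induction_on with
    | zero => exact ⟨0, map_zero _⟩
    | tmul s a =>
      obtain ⟨s, rfl⟩ := Ideal.Quotient.mk_surjective s
      refine ⟨s • a, ?_⟩
      show (1 : R ⧸ J) ⊗ₜ[R] (s • a) = _
      rw [← TensorProduct.smul_tmul, Algebra.smul_def, mul_one]
      rfl
    | add p q hp hq =>
      obtain ⟨p, rfl⟩ := hp
      obtain ⟨q, rfl⟩ := hq
      exact ⟨p + q, map_add _ _ _⟩
  have hker : RingHom.ker incR.toRingHom ≤ J.map (algebraMap R A) := fun a ha => by
    have h0 := congrArg (TensorProduct.quotTensorEquivQuotSMul A J) (show (1 : R ⧸ J) ⊗ₜ[R] a = 0 from ha)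
    rw [TensorProduct.quotTensorEquivQuotSMul_mk_one_tmul, map_zero, Submodule.Quotient.mk_eq_zero,
      Ideal.smul_top_eq_map] at h0
    exact h0
  have hψs : Function.Surjective ψ := fun x => by
    obtain ⟨n, hn⟩ := hJ
    have hle : RingHom.ker incR.toRingHom ≤ x.asIdeal := hker.trans (Ideal.map_le_iff_le_comap.2 fun r hr => by
      refine (x.isPrime.mem_of_pow_mem n ?_ : algebraMap R A r ∈ x.asIdeal)
      rw [← map_pow, show r ^ n = 0 from (Ideal.mem_bot).1 (hn.le (Ideal.pow_mem_pow hr n)), map_zero]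
      exact x.asIdeal.zero_mem)
    have hmem : x ∈ Set.range (PrimeSpectrum.comap incR.toRingHom) := by
      rw [range_comap_of_surjective _ _ hsurj]
      exact hle
    exact hmem
  haveI hψc : IsClosedImmersion ψ := IsClosedImmersion.spec_of_surjective _ hsurj
  let e := ψ.isEmbedding.toHomeomorphOfSurjective hψs
  have htop : ⇑f.left = ⇑(ψ ≫ f.left) ∘ e.symm := by
    funext x
    show f.left x = (ψ ≫ f.left) (e.symm x)
    rw [Scheme.Hom.comp_apply]
    exact congrArg f.left (e.apply_symm_apply x).symm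
  haveI : SurjectiveOnStalks f.left := by
    have hch : ∀ x : (pt R A).left, ∃ (W : Y.left.Opens) (g : A), IsAffineOpen W ∧ g ∉ x.asIdeal ∧
        (PrimeSpectrum.basicOpen g : Set (PrimeSpectrum A)) ⊆ f.left ⁻¹' (W : Set Y.left) := fun x => by
      obtain ⟨W, hW, hxW, -⟩ := exists_isAffineOpen_mem_and_subset (x := f.left x) (U := ⊤) trivial
      obtain ⟨_, ⟨g, rfl⟩, hxg, hsub⟩ := PrimeSpectrum.isTopologicalBasis_basic_opens.exists_subset_of_mem_open
        (show x ∈ (f.left ⁻¹ᵁ W : Set (pt R A).left) from hxW) (f.left ⁻¹ᵁ W).isOpen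
      exact ⟨W, g, hW, hxg, hsub⟩
    choose W g hW hxg hsub using hch
    let U : (pt R A).left → Scheme.{u} := fun x => Spec (CommRingCat.of (Localization.Away (g x)))
    refine ⟨fun x => ?_⟩
    let Ag := Localization.Away (g x)
    let a : Spec (CommRingCat.of Ag) ⟶ (pt R A).left := Spec.map (CommRingCat.ofHom (algebraMap A Ag))
    haveI : IsOpenImmersion a := .of_isLocalization (g x)
    have ha : Set.range a = (PrimeSpectrum.basicOpen (g x) : Set (PrimeSpectrum A)) :=
      PrimeSpectrum.localization_away_comap_range Ag (g x)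
    have hr : Set.range (a ≫ f.left) ⊆ Set.range (hW x).fromSpec := by
      rw [(hW x).range_fromSpec]
      rintro _ ⟨z, rfl⟩
      exact hsub x (ha.subset ⟨z, rfl⟩)
    let t := IsOpenImmersion.lift (hW x).fromSpec (a ≫ f.left) hr
    have ht : t ≫ (hW x).fromSpec = a ≫ f.left := IsOpenImmersion.lift_fac _ _ _
    let β := Spec.preimage ((hW x).fromSpec ≫ Y.hom)
    letI : Algebra R Γ(Y.left, W x) := β.hom.toAlgebra
    let φ₀ := Spec.preimage t
    have hφ : β ≫ φ₀ = CommRingCat.ofHom (algebraMap R Ag) := by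
      refine Spec.map_injective ?_
      rw [Spec.map_comp, Spec.map_preimage, Spec.map_preimage, ← Category.assoc, ht, Category.assoc, Over.w f]
      show Spec.map _ ≫ Spec.map _ = _
      rw [← Spec.map_comp]
      rfl
    let φ : Γ(Y.left, W x) →ₐ[R] Ag := ⟨φ₀.hom, fun r => congrArg (fun k => k.hom r) hφ⟩
    let Q := Ag ⧸ J.map (algebraMap R Ag)
    let q : Ag →+* Q := Ideal.Quotient.mk _
    have hfac : ∀ y ∈ RingHom.ker incR.toRingHom, q (algebraMap A Ag y) = 0 := fun y hy => by
      have := Ideal.mem_map_of_mem (algebraMap A Ag) (hker hy)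
      rw [Ideal.map_map, ← IsScalarTower.algebraMap_eq] at this
      exact Ideal.Quotient.eq_zero_iff_mem.2 this
    let u₀ := RingHom.liftOfSurjective incR.toRingHom hsurj ⟨q.comp (algebraMap A Ag), hfac⟩
    have hu : u₀.comp incR.toRingHom = q.comp (algebraMap A Ag) :=
      RingHom.liftOfRightInverse_comp _ _ _ _
    have hu₀ : u₀.SurjectiveOnStalks := by
      refine RingHom.SurjectiveOnStalks.of_comp (f := incR.toRingHom) ?_
      rw [hu]
      exact (RingHom.surjectiveOnStalks_of_surjective Ideal.Quotient.mk_surjective).comp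
        (RingHom.surjectiveOnStalks_of_isLocalization (M := Submonoid.powers (g x)) Ag)
    haveI : SurjectiveOnStalks (Spec.map (CommRingCat.ofHom u₀)) := SurjectiveOnStalks.Spec_iff.2 hu₀
    haveI := h
    haveI h2 : SurjectiveOnStalks (Spec.map (CommRingCat.ofHom q) ≫ t ≫ (hW x).fromSpec) := by
      have h3 : SurjectiveOnStalks (Spec.map (CommRingCat.ofHom u₀) ≫ ψ ≫ f.left) := inferInstance
      rw [ht, show Spec.map (CommRingCat.ofHom q) ≫ a ≫ f.left = Spec.map (CommRingCat.ofHom u₀) ≫ ψ ≫ f.left by
        rw [← Category.assoc, ← Category.assoc, ← Spec.map_comp, ← Spec.map_comp, ← CommRingCat.ofHom_comp,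
          ← CommRingCat.ofHom_comp, hu]]
      exact h3
    rw [← Category.assoc] at h2
    haveI : SurjectiveOnStalks (Spec.map (CommRingCat.ofHom q) ≫ t) := SurjectiveOnStalks.of_comp _ (hW x).fromSpec
    have h4 : (q.comp φ.toRingHom).SurjectiveOnStalks := by
      have : SurjectiveOnStalks (Spec.map (φ₀ ≫ CommRingCat.ofHom q)) := by
        rw [Spec.map_comp, Spec.map_preimage]; infer_instance
      exact SurjectiveOnStalks.Spec_iff.1 this
    have h5 : φ.toRingHom.SurjectiveOnStalks :=
      surjectiveOnStalks_of_mod J hJ φ q Ideal.Quotient.mk_surjective (by rw [Ideal.mk_ker]) h4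
    haveI : SurjectiveOnStalks t := by
      rw [← Spec.map_preimage t]; exact SurjectiveOnStalks.Spec_iff.2 h5
    haveI h6 : SurjectiveOnStalks (a ≫ f.left) := by rw [← ht]; infer_instance
    obtain ⟨z, hz⟩ : x ∈ Set.range a := by rw [ha]; exact hxg x
    have h7 := (a ≫ f.left).stalkMap_surjective z
    rw [Scheme.Hom.stalkMap_comp] at h7
    have h8 : Function.Surjective (f.left.stalkMap (a z)) := by
      intro y
      obtain ⟨w, hw⟩ := h7 (a.stalkMap z y)
      exact ⟨w, (ConcreteCategory.bijective_of_isIso (a.stalkMap z)).1 hw⟩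
    rw [hz] at h8
    exact h8
  refine { isEmbedding := ?_, isLocallyClosed_range := ?_ }
  · rw [htop]
    exact (ψ ≫ f.left).isEmbedding.comp e.symm.isEmbedding
  · rw [htop, Set.range_comp, e.symm.surjective.range_eq, Set.image_univ]
    exact (ψ ≫ f.left).isLocallyClosed_range

end Groth.Agent.SmoothHomLift
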