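import Groth.Agent.SmoothHomLift.Core
import Groth.Agent.SmoothLiftLib.Nbhd
import Groth.Agent.FixedSmooth.Split
import Groth.Agent.MultType.Integral
/-!
Homomorphisms from an affine group with an invariant integral into a smooth group scheme lift along nilpotent
thickenings of an affine base.
-/

set_option autoImplicit false
set_option backward.isDefEq.respectTransparency false
set_option backward.isDefEq.respectTransparency.types false
set_option linter.style.haveILetI false
set_option linter.unusedSectionVars false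
set_option maxHeartbeats 800000

universe u

open CategoryTheory CategoryTheory.Limits MonoidalCategory CartesianMonoidalCategory MonObj GrpObj AlgebraicGeometry
open TensorProduct
open scoped TensorProduct

noncomputable section

namespace Groth.Agent.SmoothHomLift

variable {R : Type u} [CommRing R] {A : Type u} [CommRing A] {G : Over (Spec (CommRingCat.of R))} [GrpObj G]

section Smooth

variable [Algebra R A] [Smooth G.hom] {S S₁ : Type u} [CommRing S] [Algebra R S] [CommRing S₁] [Algebra R S₁]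

/-- Points lift along square-zero thickenings of the coefficients. -/
theorem exists_point_lift (π : S →ₐ[R] S₁) (hπ : Function.Surjective π) (hN : RingHom.ker π ^ 2 = ⊥)
    (f₁ : pt R (S₁ ⊗[R] A) ⟶ G) : ∃ f : pt R (S ⊗[R] A) ⟶ G, push (qm π A) f = f₁ := by
  let I : Ideal (S ⊗[R] A) := RingHom.ker (qm π A)
  have hI : I ^ 2 = ⊥ := by
    rw [pow_two, eq_bot_iff, Ideal.mul_le]
    exact fun x hx y hy => (Submodule.mem_bot _).2 (qm_mul_eq_zero hπ hN hx hy)
  let e := Ideal.quotientKerAlgEquivOfSurjective (qm_surjective (M := A) π hπ)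
  let g : S₁ ⊗[R] A →ₐ[R] (S ⊗[R] A) ⧸ I := e.symm.toAlgHom
  have hg : g.comp (qm π A) = Ideal.Quotient.mkₐ R I := AlgHom.ext fun x => e.injective (by
    rw [AlgHom.comp_apply]
    exact (e.apply_symm_apply _).trans rfl)
  obtain ⟨l, hl, hlq⟩ := SmoothLiftLib.isFormallySmoothHom_of_smooth G.hom (S ⊗[R] A) I hI
    (tm g ≫ f₁).left (pt R (S ⊗[R] A)).hom (by
      rw [Over.w (tm g ≫ f₁)]
      exact Over.w (tm (Ideal.Quotient.mkₐ R I)))
  refine ⟨Over.homMk l hlq, ?_⟩
  have h : push (Ideal.Quotient.mkₐ R I) (Over.homMk l hlq : pt R (S ⊗[R] A) ⟶ G) = push g f₁ :=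
    Over.OverMorphism.ext hl
  have hge : (e : _ →ₐ[R] S₁ ⊗[R] A).comp g = AlgHom.id R _ := AlgHom.ext fun x => e.apply_symm_apply x
  have h' := congrArg (push (e : _ →ₐ[R] S₁ ⊗[R] A)) h
  rwa [push_push, push_push, ← hg, ← AlgHom.comp_assoc, hge, AlgHom.id_comp, push_id] at h'

end Smooth

variable [Bialgebra R A]

/-- Points of the homomorphisms lift along nilpotent thickenings of the coefficients. -/
theorem exists_isH_lift [Smooth G.hom] (l : A →ₗ[R] R) (h1 : l 1 = 1) (hr : MultType.IsRightInt l) :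
    ∀ (n : ℕ) (S S₀ : Type u) [CommRing S] [Algebra R S] [CommRing S₀] [Algebra R S₀] (π : S →ₐ[R] S₀),
      Function.Surjective π → RingHom.ker π ^ (n + 1) = ⊥ → ∀ f₀ : pt R (S₀ ⊗[R] A) ⟶ G, IsH S₀ f₀ →
        ∃ f : pt R (S ⊗[R] A) ⟶ G, IsH S f ∧ push (qm π A) f = f₀ := by
  intro n
  induction n with
  | zero =>
    intro S S₀ _ _ _ _ π hπ hN f₀ hf₀
    rw [zero_add, pow_one] at hN
    let e := AlgEquiv.ofBijective π ⟨(RingHom.injective_iff_ker_eq_bot _).2 hN, hπ⟩
    refine ⟨push (qm e.symm.toAlgHom A) f₀, isH_push _ hf₀, ?_⟩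
    rw [push_push, show (qm π A).comp (qm e.symm.toAlgHom A) = AlgHom.id R _ from
      Algebra.TensorProduct.ext' fun s a => by
        show π (e.symm s) ⊗ₜ[R] a = s ⊗ₜ a
        rw [show π (e.symm s) = s from e.apply_symm_apply s], push_id]
  | succ n ih =>
    intro S S₀ _ _ _ _ π hπ hN f₀ hf₀
    let N := RingHom.ker π
    let K : Ideal S := N ^ (n + 1)
    have hKN : K ≤ N := Ideal.pow_le_self (by omega)
    let p : S →ₐ[R] S ⧸ K := Ideal.Quotient.mkₐ R K
    let π₁ : S ⧸ K →ₐ[R] S₀ := Ideal.Quotient.liftₐ K π fun r hr => hKN hr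
    have hπ₁ : Function.Surjective π₁ := fun y => by
      obtain ⟨s, rfl⟩ := hπ y
      exact ⟨p s, rfl⟩
    have hker : RingHom.ker π₁ ^ (n + 1) = ⊥ := by
      have : RingHom.ker π₁ ≤ N.map (Ideal.Quotient.mk K) := fun x hx => by
        obtain ⟨s, rfl⟩ := Ideal.Quotient.mk_surjective x
        exact Ideal.mem_map_of_mem _ hx
      refine eq_bot_iff.2 ((Ideal.pow_right_mono this _).trans ?_)
      rw [← Ideal.map_pow, Ideal.map_quotient_self]
    obtain ⟨f₁, hf₁, hf₁e⟩ := ih (S ⧸ K) S₀ π₁ hπ₁ hker f₀ hf₀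
    have hK : RingHom.ker p ^ 2 = ⊥ := by
      rw [show RingHom.ker p = K from Ideal.mk_ker, eq_bot_iff, ← hN, ← pow_mul]
      exact Ideal.pow_le_pow_right (by omega)
    obtain ⟨g, hg⟩ := exists_point_lift p Ideal.Quotient.mk_surjective hK f₁
    obtain ⟨f, hf, hfe⟩ := exists_isH_of_congr p Ideal.Quotient.mk_surjective hK l h1 hr g (by rw [hg]; exact hf₁)
    refine ⟨f, hf, ?_⟩
    rw [show qm π A = (qm π₁ A).comp (qm p A) from Algebra.TensorProduct.ext' fun s a => rfl, ← push_push, hfe, hg,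
      hf₁e]

variable {A : Type u} [CommRing A] [HopfAlgebra R A]

local notation "H" => AlgebraicGeometry.Scheme.asOver (Spec (CommRingCat.of A)) (Spec (CommRingCat.of R))

/-- The identification of `H ⊗ H` with the spectrum of `A ⊗ A`. -/
def sqIso : H ⊗ H ≅ pt R (A ⊗[R] A) :=
  Over.isoMk (pullbackSpecIso R A A) (pullbackSpecIso_hom_base R A A)

/-- A point of the group. -/
def tmH {T : Type u} [CommRing T] [Algebra R T] (φ : A →ₐ[R] T) : pt R T ⟶ H := tm φ

theorem sqIso_fst : (sqIso (R := R) (A := A)).hom ≫ tmH (Algebra.TensorProduct.includeLeft : A →ₐ[R] A ⊗[R] A) = fst H H :=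
  Over.OverMorphism.ext (pullbackSpecIso_hom_fst R A A)

theorem sqIso_snd : (sqIso (R := R) (A := A)).hom ≫ tmH (Algebra.TensorProduct.includeRight : A →ₐ[R] A ⊗[R] A) = snd H H :=
  Over.OverMorphism.ext (pullbackSpecIso_hom_snd R A A)

theorem sqIso_mul : (sqIso (R := R) (A := A)).hom ≫ tmH (Bialgebra.comulAlgHom R A) = μ[H] := by
  apply Over.OverMorphism.ext
  rw [Over.comp_left]
  exact (mul_spec_asOver_spec_left (R := CommRingCat.of R) (A := CommRingCat.of A)).symm

/-- Comultiplication is the product of the two projections. -/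
theorem tm_comul : tmH (Bialgebra.comulAlgHom R A) =
    tmH (Algebra.TensorProduct.includeLeft : A →ₐ[R] A ⊗[R] A) * tmH (Algebra.TensorProduct.includeRight : A →ₐ[R] A ⊗[R] A) := by
  rw [← cancel_epi (sqIso (R := R) (A := A)).hom, MonObj.comp_mul, sqIso_fst, sqIso_snd, sqIso_mul]
  show μ = CartesianMonoidalCategory.lift (fst H H) (snd H H) ≫ μ
  rw [lift_fst_snd, Category.id_comp]

/-- The criterion for a point to be a homomorphism. -/
theorem isMonHom_of_mul (f : H ⟶ G)
    (h : push (Bialgebra.comulAlgHom R A) f =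
      push (Algebra.TensorProduct.includeLeft : A →ₐ[R] A ⊗[R] A) f *
        push (Algebra.TensorProduct.includeRight : A →ₐ[R] A ⊗[R] A) f) : IsMonHom f := by
  have hmul : μ[H] ≫ f = (f ⊗ₘ f) ≫ μ[G] := by
    rw [← sqIso_mul, Category.assoc]
    refine (congrArg (sqIso.hom ≫ ·) h).trans ?_
    rw [MonObj.comp_mul]
    show (sqIso.hom ≫ tmH _ ≫ f) * (sqIso.hom ≫ tmH _ ≫ f) = _
    rw [← Category.assoc, ← Category.assoc, sqIso_fst, sqIso_snd]
    show lift (fst H H ≫ f) (snd H H ≫ f) ≫ μ = _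
    congr 1
  refine { mul_hom := hmul, one_hom := ?_ }
  have h1 : (η[H] ≫ f) * (η[H] ≫ f) = η[H] ≫ f := by
    have e : lift η[H] η[H] ≫ μ[H] = η[H] := by
      show (η[H] : 𝟙_ _ ⟶ H) * η[H] = η[H]
      rw [show η[H] = (1 : 𝟙_ _ ⟶ H) by rw [MonObj.one_eq_one], _root_.mul_one]
    show lift (η[H] ≫ f) (η[H] ≫ f) ≫ μ = _
    rw [← lift_map, Category.assoc, ← hmul, ← Category.assoc, e]
  rw [mul_eq_left] at h1
  rw [h1, MonObj.one_eq_one]

variable {S₀ : Type u} [CommRing S₀] [Algebra R S₀]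

/-- The base map of the coefficients. -/
abbrev bq (R S₀ : Type u) [CommRing R] [CommRing S₀] [Algebra R S₀] : Spec (CommRingCat.of S₀) ⟶ Spec (CommRingCat.of R) :=
  Spec.map (CommRingCat.ofHom (algebraMap R S₀))

/-- The spectrum of `S₀ ⊗ M`, over `S₀`. -/
abbrev ptX (M : Type u) [CommRing M] [Algebra R M] : Over (Spec (CommRingCat.of S₀)) := pt S₀ (S₀ ⊗[R] M)

/-- Forgetting to the base. -/
def ptIso (M : Type u) [CommRing M] [Algebra R M] : (Over.map (bq R S₀)).obj (ptX (R := R) (S₀ := S₀) M) ≅ pt R (S₀ ⊗[R] M) :=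
  Over.isoMk (Iso.refl _) (by
    show 𝟙 _ ≫ Spec.map _ = Spec.map _ ≫ Spec.map _
    rw [Category.id_comp, ← Spec.map_comp, ← CommRingCat.ofHom_comp, ← IsScalarTower.algebraMap_eq])

/-- Points over `R` as points of the base change. -/
def pe (M : Type u) [CommRing M] [Algebra R M] (G : Over (Spec (CommRingCat.of R))) [GrpObj G] :
    (pt R (S₀ ⊗[R] M) ⟶ G) ≃* (ptX (R := R) (S₀ := S₀) M ⟶ Red.bc (bq R S₀) G) :=
  (FixedSmooth.precompEquiv (ptIso M)).trans (FixedSmooth.adjEquiv (bq R S₀) G (ptX M))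

theorem pe_sm {M M' : Type u} [CommRing M] [Algebra R M] [CommRing M'] [Algebra R M'] (φ : M →ₐ[R] M')
    (x : pt R (S₀ ⊗[R] M) ⟶ G) :
    pe M' G (push (sm S₀ φ) x) = tm (R := S₀) (Algebra.TensorProduct.map (AlgHom.id S₀ S₀) φ) ≫ pe M G x := by
  show (Over.mapPullbackAdj (bq R S₀)).homEquiv _ G ((ptIso M').hom ≫ tm (sm S₀ φ) ≫ x) = _
  refine Eq.trans ?_ (Adjunction.homEquiv_naturality_left _ _ _)
  congr 1

theorem pe_comp {G' : Over (Spec (CommRingCat.of R))} [GrpObj G'] {M : Type u} [CommRing M] [Algebra R M]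
    (x : pt R (S₀ ⊗[R] M) ⟶ G) (k : G ⟶ G') : pe M G' (x ≫ k) = pe M G x ≫ (Over.pullback (bq R S₀)).map k := by
  show (Over.mapPullbackAdj (bq R S₀)).homEquiv _ G' ((ptIso M).hom ≫ x ≫ k) = _
  rw [← Category.assoc, Adjunction.homEquiv_naturality_right]
  rfl

/-- The universal point of `H` over `S₀`. -/
def incl : pt R (S₀ ⊗[R] A) ⟶ H := tmH (Algebra.TensorProduct.includeRight : A →ₐ[R] S₀ ⊗[R] A)

instance isIso_pe_incl : IsIso (pe A H (incl (R := R) (A := A) (S₀ := S₀))) := by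
  let k := pe A H (incl (R := R) (A := A) (S₀ := S₀))
  have h : k.left = ((pullbackSymmetry (H).hom (bq R S₀)) ≪≫ pullbackSpecIso R S₀ A).inv := by
    apply pullback.hom_ext
    · show k.left ≫ pullback.fst _ _ = _
      rw [show k.left ≫ pullback.fst (H).hom (bq R S₀) = (incl (R := R) (A := A) (S₀ := S₀)).left from ?_]
      · rw [Iso.trans_inv, Category.assoc, pullbackSymmetry_inv_comp_fst]
        erw [pullbackSpecIso_inv_snd]
        rfl
      · have hc : ((Over.mapPullbackAdj (bq R S₀)).homEquiv _ H).symm k = (ptIso A).hom ≫ incl (R := R) (A := A) (S₀ := S₀) :=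
          Equiv.symm_apply_apply _ _
        rw [Adjunction.homEquiv_counit] at hc
        have h2 := congrArg CommaMorphism.left hc
        exact h2.trans (Category.id_comp _)
    · show k.left ≫ pullback.snd _ _ = _
      rw [show k.left ≫ pullback.snd (H).hom (bq R S₀) = (ptX (R := R) (S₀ := S₀) A).hom from Over.w k]
      rw [Iso.trans_inv, Category.assoc, pullbackSymmetry_inv_comp_snd]
      erw [pullbackSpecIso_inv_fst]
      rfl
  haveI : IsIso ((Over.forget _).map k) := by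
    show IsIso k.left
    rw [h]
    infer_instance
  exact isIso_of_reflects_iso k (Over.forget _)

/-- A homomorphism over the reduced base lifts. -/
theorem exists_hom_lift [Smooth G.hom] (hA : SGA3b.IsMultType R A) (J : Ideal R) (hJ : IsNilpotent J)
    (g₀ : Red.bc (bq R (R ⧸ J)) H ⟶ Red.bc (bq R (R ⧸ J)) G) [IsMonHom g₀] :
    ∃ f : H ⟶ G, IsMonHom f ∧ (Over.pullback (bq R (R ⧸ J))).map f = g₀ := by
  obtain ⟨l, h1, -, hr⟩ := MultType.exists_integral hA
  let u := pe A H (incl (R := R) (A := A) (S₀ := R ⧸ J))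
  let f₀ := (pe A G).symm (u ≫ g₀)
  have hpe : pe A G f₀ = u ≫ g₀ := MulEquiv.apply_symm_apply _ _
  have hf₀ : IsH (R ⧸ J) f₀ := by
    refine (pe (A ⊗[R] A) G).injective ?_
    rw [map_mul, pe_sm, pe_sm, pe_sm, hpe, ← Category.assoc, ← Category.assoc, ← Category.assoc, ← MonObj.mul_comp]
    congr 1
    rw [← pe_sm, ← pe_sm, ← pe_sm, ← map_mul]
    congr 1
    simp only [incl]
    have e : ∀ φ : A →ₐ[R] A ⊗[R] A, push (sm (R ⧸ J) φ) (tmH (Algebra.TensorProduct.includeRight : A →ₐ[R] (R ⧸ J) ⊗[R] A)) =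
        push (Algebra.TensorProduct.includeRight : A ⊗[R] A →ₐ[R] (R ⧸ J) ⊗[R] (A ⊗[R] A)) (tmH φ) := fun φ => by
      show tm _ ≫ tm _ = tm _ ≫ tm _
      rw [← tm_comp, ← tm_comp]
      congr 1
    rw [e, e, e, ← map_mul, tm_comul]
  obtain ⟨n, hn⟩ := hJ
  have hker : RingHom.ker (Ideal.Quotient.mkₐ R J) ^ (n + 1) = ⊥ := by
    rw [show RingHom.ker (Ideal.Quotient.mkₐ R J) = J from Ideal.mk_ker, pow_succ, hn]
    simp
  obtain ⟨f', hf', hfe⟩ := exists_isH_lift l h1 hr n R (R ⧸ J) (Ideal.Quotient.mkₐ R J) Ideal.Quotient.mk_surjective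
    hker f₀ hf₀
  let lA := (Algebra.TensorProduct.lid R A).toAlgHom
  let f : H ⟶ G := push lA f'
  have hnat : ∀ φ : A →ₐ[R] A ⊗[R] A, φ.comp lA = (Algebra.TensorProduct.lid R (A ⊗[R] A)).toAlgHom.comp (sm R φ) :=
    fun φ => Algebra.TensorProduct.ext' fun r a => by simp [lA, sm]
  have hf : IsMonHom f := isMonHom_of_mul f (by
    simp only [f, push_push, hnat]
    simp only [← push_push]
    rw [hf', map_mul])
  refine ⟨f, hf, ?_⟩
  haveI : IsIso u := isIso_pe_incl
  rw [← cancel_epi u, ← pe_comp, ← hpe]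
  congr 1
  rw [← hfe]
  show tm _ ≫ tm lA ≫ f' = tm _ ≫ f'
  rw [← Category.assoc, ← tm_comp]
  congr 2
  exact Algebra.TensorProduct.ext' fun r a => by
    show (1 : R ⧸ J) ⊗ₜ[R] (r • a) = (algebraMap R (R ⧸ J) r) ⊗ₜ[R] a
    rw [← TensorProduct.smul_tmul, Algebra.algebraMap_eq_smul_one]

end Groth.Agent.SmoothHomLift
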