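import Groth.Agent.SmoothHomLift.Main
import Groth.Agent.SmoothHomLift.Immersion
import Groth.Agent.SmoothHomLift.Bridge
import Groth.Agent.HopfKer.Global
import Groth.Agent.MultGeomLib.Main
import Groth.Agent.MultNormal.HopfIdeal
import Groth.Agent.S2973
import Groth.Agent.S2979
/-!
Lifting of subgroups of multiplicative type into smooth groups; torsion subgroups.
-/

set_option autoImplicit false
set_option backward.isDefEq.respectTransparency false
set_option backward.isDefEq.respectTransparency.types false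
set_option linter.style.haveILetI false
set_option linter.unusedSectionVars false
set_option maxHeartbeats 800000

universe u

open CategoryTheory CategoryTheory.Limits MonoidalCategory CartesianMonoidalCategory MonObj GrpObj AlgebraicGeometry
open TensorProduct SGA3b
open scoped TensorProduct

noncomputable section

namespace Groth.Agent.SmoothHomLift

/-- A subgroup of multiplicative type of the reduction of a smooth group lifts. -/
theorem exists_subgroup_lift {R : Type u} [CommRing R] (J : Ideal R) (hJ : IsNilpotent J)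
    {G : Over (Spec (CommRingCat.of R))} [GrpObj G] [Smooth G.hom]
    {H₀ : Over (Spec (CommRingCat.of (R ⧸ J)))} [GrpObj H₀] (hH₀ : WeilClosedLib.IsMultTypeLoc H₀)
    (j₀ : H₀ ⟶ Red.bc (bq R (R ⧸ J)) G) [IsMonHom j₀] [IsImmersion j₀.left] :
    ∃ (A : Type u) (_ : CommRing A) (_ : HopfAlgebra R A), IsMultType R A ∧ Algebra.FiniteType R A ∧
      ∃ (f : (Spec (CommRingCat.of A)).asOver (Spec (CommRingCat.of R)) ⟶ G)
        (φ : Grp.mk (Red.bc (bq R (R ⧸ J)) ((Spec (CommRingCat.of A)).asOver (Spec (CommRingCat.of R)))) ≅ Grp.mk H₀),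
        IsMonHom f ∧ IsImmersion f.left ∧ φ.hom.hom.hom ≫ j₀ = (Over.pullback (bq R (R ⧸ J))).map f := by
  let R₀ := R ⧸ J
  let q : Spec (CommRingCat.of R₀) ⟶ Spec (CommRingCat.of R) := bq R R₀
  haveI : IsClosedImmersion q := IsClosedImmersion.spec_of_surjective _ Ideal.Quotient.mk_surjective
  haveI : LocallyOfFiniteType (Red.bc q G).hom := inferInstanceAs (LocallyOfFiniteType (Limits.pullback.snd G.hom q))
  haveI : LocallyOfFiniteType H₀.hom := by
    rw [← Over.w j₀]; infer_instance
  have hFT : SGA3x.IsMultTypeFT H₀ := isMultTypeFT_of_loc hH₀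
  haveI : IsAffineHom H₀.hom := FixedSmooth.isAffineHom_of_isMultTypeLoc (.of_isMultTypeFT hFT)
  obtain ⟨A₀, _, _, ⟨e₀⟩⟩ := MultBridge.exists_hopf R₀ H₀
  obtain ⟨hft, hA₀⟩ := isMultType_of_FT hFT e₀
  obtain ⟨A, _, _, hA, ⟨e⟩⟩ := S2979.result R J (fun x hx => by
    obtain ⟨n, hn⟩ := hJ
    exact ⟨n, (Ideal.mem_bot).1 (hn.le (Ideal.pow_mem_pow hx n))⟩) A₀ (S2973.result R₀ A₀ hft hA₀)
  have hM := isMultType_of_qi hA
  let H := (Spec (CommRingCat.of A)).asOver (Spec (CommRingCat.of R))
  let φg : Grp.mk (Red.bc q H) ≅ Grp.mk H₀ :=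
    TorusField.bcSpecIso R R₀ A ≪≫ (TorusField.specIso e).symm ≪≫ e₀
  haveI : IsMonHom φg.hom.hom.hom := φg.hom.hom.isMonHom_hom
  let g₀ : Red.bc q H ⟶ Red.bc q G := φg.hom.hom.hom ≫ j₀
  obtain ⟨f, hf, hfg⟩ := exists_hom_lift hM J hJ g₀
  have hfi : IsImmersion f.left := by
    refine isImmersion_of_mod J hJ f ?_
    haveI : IsIso φg.hom.hom.hom.left := ((Grp.forget _ ⋙ Over.forget _).mapIso φg).isIso_hom
    haveI : IsImmersion g₀.left := by
      show IsImmersion (φg.hom.hom.hom.left ≫ j₀.left)
      infer_instance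
    haveI : IsClosedImmersion (Limits.pullback.fst G.hom q) := inferInstance
    let k := pe (R := R) (S₀ := R₀) A H (incl (R := R) (A := A) (S₀ := R₀))
    haveI : IsIso k := isIso_pe_incl
    haveI : IsIso k.left := (Over.forget _).map_isIso k
    have hk : k.left ≫ Limits.pullback.fst H.hom q =
        Spec.map (CommRingCat.ofHom (Algebra.TensorProduct.includeRight : A →ₐ[R] R₀ ⊗[R] A).toRingHom) := by
      have hc : ((Over.mapPullbackAdj q).homEquiv _ H).symm k =
          (ptIso (R := R) (S₀ := R₀) A).hom ≫ incl (R := R) (A := A) (S₀ := R₀) :=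
        Equiv.symm_apply_apply _ _
      rw [Adjunction.homEquiv_counit] at hc
      exact (congrArg CommaMorphism.left hc).trans (Category.id_comp _)
    have hsq : Limits.pullback.fst H.hom q ≫ f.left = g₀.left ≫ Limits.pullback.fst G.hom q := by
      rw [← hfg]
      exact (FixedSmooth.isPullback_bc q f).w
    rw [← hk, Category.assoc, hsq]
    infer_instance
  haveI : Algebra.FiniteType R A := by
    haveI : LocallyOfFiniteType (Spec.map (CommRingCat.ofHom (algebraMap R A))) := by
      rw [show Spec.map (CommRingCat.ofHom (algebraMap R A)) = f.left ≫ G.hom from (Over.w f).symm]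
      infer_instance
    exact RingHom.finiteType_algebraMap.1 ((HasRingHomProperty.Spec_iff (P := @LocallyOfFiniteType)).1 this)
  exact ⟨A, inferInstance, inferInstance, hM, inferInstance, f, φg, hf, hfi, hfg.symm⟩

/-- The torsion subgroup of a group of multiplicative type and finite type. -/
theorem exists_torsion_subgroup {R : Type u} [CommRing R] {A : Type u} [CommRing A] [HopfAlgebra R A]
    (hA : IsMultType R A) (hft : Algebra.FiniteType R A) (n : ℕ) :
    ∃ (T : Over (Spec (CommRingCat.of R))) (_ : GrpObj T)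
      (ti : T ⟶ (Spec (CommRingCat.of A)).asOver (Spec (CommRingCat.of R))),
      IsMonHom ti ∧ Mono ti ∧ WeilClosedLib.IsMultTypeLoc T ∧
      ∀ (X : Over (Spec (CommRingCat.of R))) (x : X ⟶ (Spec (CommRingCat.of A)).asOver (Spec (CommRingCat.of R))),
        x ^ n = 1 ↔ ∃ y : X ⟶ T, y ≫ ti = x := by
  haveI := MultType.isCocomm_of_isMultType hA
  haveI := MultNormal.isHopfIdeal_torsionIdeal (k := R) (A := A) n
  let I := torsionIdeal R A n
  let p : A →ₐc[R] A := ((WithConv.toConv (BialgHom.id R A)) ^ n).ofConv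
  have hp : ∀ a, p a = powConv R A n a := fun a => by
    have h := BialgHom.toAlgHom_convPow (WithConv.toConv (BialgHom.id R A)) n
    exact congr(($h).ofConv a)
  have hmap : torsionIdeal R A n = Ideal.map p (RingHom.ker (Bialgebra.counitAlgHom R A)) := by
    rw [torsionIdeal]
    refine le_antisymm (Ideal.map_le_iff_le_comap.2 fun a ha => ?_) (Ideal.map_le_iff_le_comap.2 fun a ha => ?_)
    · rw [Ideal.mem_comap, ← hp]
      exact Ideal.mem_map_of_mem p ha
    · rw [Ideal.mem_comap, hp]
      exact Ideal.mem_map_of_mem (powConv R A n) ha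
  haveI := HopfKer.finitePresentation_of_isMultType hA hft
  have hT : IsMultType R (A ⧸ I) := HopfKer.isMultType_kernel p hA hft I hmap
  haveI := hft
  have hTft : Algebra.FiniteType R (A ⧸ I) :=
    Algebra.FiniteType.of_surjective (Ideal.Quotient.mkₐ R I) Ideal.Quotient.mk_surjective
  let tg := TorusField.specHom (Bialgebra.Quotient.mkBialgHom I : A →ₐc[R] A ⧸ I)
  let ti := tg.hom.hom
  haveI : IsMonHom ti := tg.hom.isMonHom_hom
  have htl : ti.left = Spec.map (CommRingCat.ofHom (Ideal.Quotient.mk I)) := rfl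
  haveI : IsClosedImmersion ti.left := by
    rw [htl]; exact IsClosedImmersion.spec_of_surjective _ Ideal.Quotient.mk_surjective
  haveI hm : Mono ti := (Over.forget _).mono_of_mono_map (inferInstanceAs (Mono ti.left))
  have hP := isPullback_SpecMap_of_isPushout _ _ _ _ (MultGeom.isPushout_torsion R A n)
  refine ⟨(TorusField.specGrp R (A ⧸ I)).X, inferInstance, ti, inferInstance, hm,
    .of_isMultTypeFT (HopfKer.isMultTypeFT_spec hT hTft), fun X x => ?_⟩
  let W := (Spec (CommRingCat.of A)).asOver (Spec (CommRingCat.of R))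
  have hx : ∀ {Y : Over (Spec (CommRingCat.of R))} (z : Y ⟶ W), (z ^ n).left =
      z.left ≫ Spec.map (CommRingCat.ofHom (powConv R A n).toRingHom) := fun {Y} z => by
    conv_lhs => rw [← Category.comp_id z, ← MonObj.comp_pow]
    rw [Over.comp_left]
    exact congrArg (z.left ≫ ·) (congrArg CommaMorphism.left (MultExtSch.pow_W (R := R) (A := A) n))
  have h1 : ∀ (Y : Over (Spec (CommRingCat.of R))), (1 : Y ⟶ W).left =
      Y.hom ≫ Spec.map (CommRingCat.ofHom (Bialgebra.counitAlgHom R A).toRingHom) := fun Y => by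
    rw [show (1 : Y ⟶ W) = toUnit Y ≫ η from rfl, Over.comp_left]
    rfl
  constructor
  · intro h
    have h2 : x.left ≫ Spec.map (CommRingCat.ofHom (powConv R A n).toRingHom) =
        X.hom ≫ Spec.map (CommRingCat.ofHom (Bialgebra.counitAlgHom R A).toRingHom) := by
      rw [← hx, h, h1]
    refine ⟨Over.homMk (hP.lift x.left X.hom h2) (hP.lift_snd _ _ _), Over.OverMorphism.ext ?_⟩
    exact hP.lift_fst _ _ _
  · rintro ⟨y, rfl⟩
    apply Over.OverMorphism.ext
    rw [hx, h1, Over.comp_left, Category.assoc, htl]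
    erw [hP.w]
    rw [← Category.assoc]
    congr 1
    exact Over.w y

end Groth.Agent.SmoothHomLift
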