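import Groth.Agent.SmoothHomLift.Main
import Mathlib.RingTheory.Smooth.Fiber
import Mathlib.RingTheory.Flat.Equalizer
/-!
A square-zero thickening of the base: lifts of an algebra, and corrections of congruent homomorphisms.
-/

set_option autoImplicit false
set_option backward.isDefEq.respectTransparency false
set_option backward.isDefEq.respectTransparency.types false
set_option linter.style.haveILetI false
set_option linter.unusedSectionVars false
set_option maxHeartbeats 800000

universe u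

open CategoryTheory CategoryTheory.Limits MonoidalCategory CartesianMonoidalCategory MonObj GrpObj AlgebraicGeometry
open TensorProduct
open scoped TensorProduct

noncomputable section

namespace Groth.Agent.SmoothHomLift

variable {R : Type u} [CommRing R] {J : Ideal R}

/-- Square-zero Nakayama. -/
theorem eq_top_of_sup_smul (hJ : J ^ 2 = ⊥) {M : Type u} [AddCommGroup M] [Module R M]
    (N : Submodule R M) (h : N ⊔ J • (⊤ : Submodule R M) = ⊤) : N = ⊤ := by
  have h1 : J • (⊤ : Submodule R M) ≤ N := by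
    conv_lhs => rw [← h, Submodule.smul_sup, ← Submodule.mul_smul, ← pow_two, hJ, Submodule.bot_smul, sup_bot_eq]
    exact Submodule.smul_le_right
  rwa [sup_eq_left.2 h1] at h

variable {A : Type u} [CommRing A] [Algebra R A]

theorem includeRight_eq_zero_iff (a : A) :
    (1 : R ⧸ J) ⊗ₜ[R] a = 0 ↔ a ∈ (J • ⊤ : Submodule R A) := by
  rw [← (TensorProduct.quotTensorEquivQuotSMul A J).map_eq_zero_iff,
    TensorProduct.quotTensorEquivQuotSMul_mk_one_tmul, Submodule.Quotient.mk_eq_zero]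

theorem includeRight_surjective :
    Function.Surjective (Algebra.TensorProduct.includeRight : A →ₐ[R] (R ⧸ J) ⊗[R] A) := fun z => by
  obtain ⟨a, ha⟩ := TensorProduct.mk_surjective (R := R) (M := A) (S := R ⧸ J) Ideal.Quotient.mk_surjective z
  exact ⟨a, ha⟩

/-- An algebra which is of finite type modulo a square-zero ideal is of finite type. -/
theorem finiteType_of_sqZero (hJ : J ^ 2 = ⊥) [Algebra.FiniteType (R ⧸ J) ((R ⧸ J) ⊗[R] A)] :
    Algebra.FiniteType R A := by
  classical
  haveI : Algebra.FiniteType R (R ⧸ J) :=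
    Algebra.FiniteType.of_surjective (Ideal.Quotient.mkₐ R J) Ideal.Quotient.mk_surjective
  obtain ⟨s, hs⟩ := (Algebra.FiniteType.trans (inferInstance : Algebra.FiniteType R (R ⧸ J))
    (inferInstance : Algebra.FiniteType (R ⧸ J) ((R ⧸ J) ⊗[R] A))).out
  let σ := Function.surjInv (includeRight_surjective (J := J) (A := A))
  refine ⟨⟨s.image σ, Subalgebra.toSubmodule.injective ?_⟩⟩
  rw [Algebra.top_toSubmodule]
  refine eq_top_of_sup_smul hJ _ (eq_top_iff.2 fun a _ => ?_)
  have hle : Algebra.adjoin R (s : Set ((R ⧸ J) ⊗[R] A)) ≤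
      (Algebra.adjoin R (↑(s.image σ) : Set A)).map Algebra.TensorProduct.includeRight := by
    rw [AlgHom.map_adjoin, Finset.coe_image, ← Set.image_comp]
    refine Algebra.adjoin_mono fun x hx => ⟨x, hx, ?_⟩
    exact Function.surjInv_eq _ x
  obtain ⟨b, hb, hba⟩ := hle (hs ▸ Algebra.mem_top : (1 : R ⧸ J) ⊗ₜ[R] a ∈ _)
  refine Submodule.mem_sup.2 ⟨b, hb, a - b, (includeRight_eq_zero_iff _).1 ?_, add_sub_cancel b a⟩
  rw [TensorProduct.tmul_sub, sub_eq_zero]
  exact hba.symm

/-- Smoothness descends along nilpotent thickenings of the base. -/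
theorem smooth_of_nilpotent (hJ : IsNilpotent J) [Algebra.FinitePresentation R A] [Module.Flat R A]
    [Algebra.Smooth (R ⧸ J) ((R ⧸ J) ⊗[R] A)] : Algebra.Smooth R A := by
  refine Algebra.Smooth.of_formallySmooth_fiber fun p _ => ?_
  have hJp : J ≤ p := fun x hx => by
    obtain ⟨n, hn⟩ := hJ
    refine ‹p.IsPrime›.mem_of_pow_mem n ?_
    rw [(Ideal.mem_bot).1 (hn.le (Ideal.pow_mem_pow hx n))]
    exact p.zero_mem
  let k : R ⧸ J →ₐ[R] p.ResidueField :=
    Ideal.Quotient.liftₐ J (Algebra.ofId R p.ResidueField) fun a ha => by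
      simpa [Ideal.algebraMap_residueField_eq_zero] using hJp ha
  letI : Algebra (R ⧸ J) p.ResidueField := k.toRingHom.toAlgebra
  haveI : IsScalarTower R (R ⧸ J) p.ResidueField := .of_algebraMap_eq fun r => (k.commutes r).symm
  exact .of_equiv (Algebra.TensorProduct.cancelBaseChange R (R ⧸ J) p.ResidueField p.ResidueField A)

variable {B : Type u} [CommRing B] [Algebra R B]

/-- A flat square-zero deformation of a smooth algebra is isomorphic to it. -/
theorem exists_equiv_of_flat (hJ : J ^ 2 = ⊥) [Algebra.FormallySmooth R A] [Module.Flat R B]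
    (π : B →ₐ[R] (R ⧸ J) ⊗[R] A) (hπ : Function.Surjective π)
    (hker : ∀ b, π b = 0 → b ∈ (J • ⊤ : Submodule R B)) :
    ∃ ψ : A ≃ₐ[R] B, ∀ a, π (ψ a) = (1 : R ⧸ J) ⊗ₜ[R] a := by
  have hnil : IsNilpotent (RingHom.ker (π : B →+* (R ⧸ J) ⊗[R] A)) := ⟨2, by
    rw [Ideal.zero_eq_bot, eq_bot_iff, pow_two, Ideal.mul_le]
    intro x hx y hy
    have hx' := hker x hx
    have hy' := hker y hy
    rw [Ideal.smul_top_eq_map] at hx' hy'
    have := Ideal.mul_mem_mul hx' hy'
    rw [← Ideal.map_mul, ← pow_two, hJ, Ideal.map_bot] at this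
    exact this⟩
  let ψ := Algebra.FormallySmooth.liftOfSurjective
    (Algebra.TensorProduct.includeRight : A →ₐ[R] (R ⧸ J) ⊗[R] A) π hπ hnil
  have hψ : ∀ a, π (ψ a) = (1 : R ⧸ J) ⊗ₜ[R] a := fun a =>
    Algebra.FormallySmooth.liftOfSurjective_apply _ π hπ hnil a
  have hs : Function.Surjective ψ.toLinearMap := by
    rw [← LinearMap.range_eq_top]
    refine eq_top_of_sup_smul hJ _ (eq_top_iff.2 fun b _ => ?_)
    obtain ⟨a, ha⟩ := includeRight_surjective (π b)
    refine Submodule.mem_sup.2 ⟨ψ a, ⟨a, rfl⟩, b - ψ a, hker _ ?_, add_sub_cancel (ψ a) b⟩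
    rw [map_sub, hψ, sub_eq_zero]
    exact ha.symm
  have hi : Function.Injective ψ.toLinearMap := by
    rw [← LinearMap.ker_eq_bot]
    have hle : LinearMap.ker ψ.toLinearMap ≤ J • LinearMap.ker ψ.toLinearMap := by
      rw [← LinearMap.ker_inf_smul_top_eq_smul_of_flat J ψ.toLinearMap hs]
      refine le_inf le_rfl fun a ha => (includeRight_eq_zero_iff a).1 ?_
      rw [← hψ, show ψ a = 0 from ha, map_zero]
    have h2 := hle.trans (Submodule.smul_mono (le_refl J) hle)
    rwa [← Submodule.mul_smul, ← pow_two, hJ, Submodule.bot_smul, le_bot_iff] at h2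
  exact ⟨AlgEquiv.ofBijective ψ ⟨hi, hs⟩, hψ⟩

variable {A : Type u} [CommRing A] [HopfAlgebra R A] {G : Over (Spec (CommRingCat.of R))} [GrpObj G]

local notation "H" => AlgebraicGeometry.Scheme.asOver (Spec (CommRingCat.of A)) (Spec (CommRingCat.of R))

/-- A morphism which is a homomorphism modulo a square-zero ideal is congruent to a homomorphism. -/
theorem exists_hom_of_congr (hA : SGA3b.IsMultType R A) (J : Ideal R) (hJ : J ^ 2 = ⊥) (g : H ⟶ G)
    [IsMonHom ((Over.pullback (bq R (R ⧸ J))).map g)] :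
    ∃ f : H ⟶ G, IsMonHom f ∧
      (Over.pullback (bq R (R ⧸ J))).map f = (Over.pullback (bq R (R ⧸ J))).map g := by
  obtain ⟨l, h1, -, hr⟩ := MultType.exists_integral hA
  let g₀ := (Over.pullback (bq R (R ⧸ J))).map g
  let u := pe A H (incl (R := R) (A := A) (S₀ := R ⧸ J))
  let f₀ := (pe A G).symm (u ≫ g₀)
  have hpe : pe A G f₀ = u ≫ g₀ := MulEquiv.apply_symm_apply _ _
  have hf₀ : IsH (R ⧸ J) f₀ := by
    refine (pe (A ⊗[R] A) G).injective ?_
    rw [map_mul, pe_sm, pe_sm, pe_sm, hpe, ← Category.assoc, ← Category.assoc, ← Category.assoc, ← MonObj.mul_comp]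
    congr 1
    rw [← pe_sm, ← pe_sm, ← pe_sm, ← map_mul]
    congr 1
    simp only [incl]
    have e : ∀ φ : A →ₐ[R] A ⊗[R] A, push (sm (R ⧸ J) φ) (tmH (Algebra.TensorProduct.includeRight : A →ₐ[R] (R ⧸ J) ⊗[R] A)) =
        push (Algebra.TensorProduct.includeRight : A ⊗[R] A →ₐ[R] (R ⧸ J) ⊗[R] (A ⊗[R] A)) (tmH φ) := fun φ => by
      show tm _ ≫ tm _ = tm _ ≫ tm _
      rw [← tm_comp, ← tm_comp]
      congr 1
    rw [e, e, e, ← map_mul, tm_comul]
  let lA := (Algebra.TensorProduct.lid R A).toAlgHom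
  have hlq : (Algebra.TensorProduct.includeRight : A →ₐ[R] (R ⧸ J) ⊗[R] A).comp lA =
      qm (Ideal.Quotient.mkₐ R J) A := Algebra.TensorProduct.ext' fun r a => by
    show (1 : R ⧸ J) ⊗ₜ[R] (r • a) = (algebraMap R (R ⧸ J) r) ⊗ₜ[R] a
    rw [← TensorProduct.smul_tmul, Algebra.algebraMap_eq_smul_one]
  have hincl : ∀ x : H ⟶ G, pe (S₀ := R ⧸ J) A G
      (push (Algebra.TensorProduct.includeRight : A →ₐ[R] (R ⧸ J) ⊗[R] A) x) =
        u ≫ (Over.pullback (bq R (R ⧸ J))).map x := fun x => by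
    rw [← pe_comp]; rfl
  have hK : RingHom.ker (Ideal.Quotient.mkₐ R J) ^ 2 = ⊥ := by
    rw [show RingHom.ker (Ideal.Quotient.mkₐ R J) = J from Ideal.mk_ker, hJ]
  let g' : pt R (R ⊗[R] A) ⟶ G :=
    push (Algebra.TensorProduct.lid R A).symm.toAlgHom g
  have hg'' : push (qm (Ideal.Quotient.mkₐ R J) A) g' = f₀ := by
    refine (pe A G).injective ?_
    rw [hpe, ← hincl g]
    show pe A G (push _ (push _ g)) = _
    rw [push_push]
    congr 2
  obtain ⟨f', hf', hfe⟩ := exists_isH_of_congr (Ideal.Quotient.mkₐ R J) Ideal.Quotient.mk_surjective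
    hK l h1 hr g' (by rw [hg'']; exact hf₀)
  let f : H ⟶ G := push lA f'
  have hnat : ∀ φ : A →ₐ[R] A ⊗[R] A, φ.comp lA = (Algebra.TensorProduct.lid R (A ⊗[R] A)).toAlgHom.comp (sm R φ) :=
    fun φ => Algebra.TensorProduct.ext' fun r a => by simp [lA, sm]
  have hf : IsMonHom f := isMonHom_of_mul f (by
    simp only [f, push_push, hnat]
    simp only [← push_push]
    rw [hf', map_mul])
  refine ⟨f, hf, ?_⟩
  haveI : IsIso u := isIso_pe_incl
  rw [← cancel_epi u, ← hincl, ← hpe, ← hg'', ← hfe]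
  congr 1
  show push _ (push lA f') = _
  rw [push_push, hlq]

end Groth.Agent.SmoothHomLift
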