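import Groth.Agent.SmoothHomLift.Points
import Groth.Agent.MultType.LiftBase
/-!
A homomorphism out of a group with an invariant integral which is multiplicative modulo a square-zero ideal is
congruent to a homomorphism; the target is any group scheme.
-/

set_option autoImplicit false
set_option backward.isDefEq.respectTransparency false
set_option backward.isDefEq.respectTransparency.types false
set_option linter.style.haveILetI false
set_option linter.unusedSectionVars false
set_option maxHeartbeats 800000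

universe u

open CategoryTheory CategoryTheory.Limits MonoidalCategory CartesianMonoidalCategory MonObj GrpObj AlgebraicGeometry
open TensorProduct
open scoped TensorProduct

noncomputable section

namespace Groth.Agent.SmoothHomLift

variable {R : Type u} [CommRing R]

section Maps

variable {S S₀ : Type u} [CommRing S] [Algebra R S] [CommRing S₀] [Algebra R S₀] (π : S →ₐ[R] S₀)
  {M M' N N' : Type u} [CommRing M] [Algebra R M] [CommRing M'] [Algebra R M'] [CommRing N] [Algebra R N]
  [CommRing N'] [Algebra R N']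

/-- Coefficients extended to `S`. -/
abbrev sm (S : Type u) [CommRing S] [Algebra R S] (φ : M →ₐ[R] M') : S ⊗[R] M →ₐ[R] S ⊗[R] M' :=
  Algebra.TensorProduct.map (AlgHom.id R S) φ

/-- Reduction of the coefficients. -/
abbrev qm (M : Type u) [CommRing M] [Algebra R M] : S ⊗[R] M →ₐ[R] S₀ ⊗[R] M :=
  Algebra.TensorProduct.map π (AlgHom.id R M)

theorem sm_sm (φ : M' →ₐ[R] N) (ψ : M →ₐ[R] M') : (sm S φ).comp (sm S ψ) = sm S (φ.comp ψ) :=
  Algebra.TensorProduct.ext' fun s m => rfl

theorem qm_sm (φ : M →ₐ[R] M') : (qm π M').comp (sm S φ) = (sm S₀ φ).comp (qm π M) :=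
  Algebra.TensorProduct.ext' fun s m => rfl

theorem qm_surjective (hπ : Function.Surjective π) : Function.Surjective (qm π M) := fun z => by
  induction z using TensorProduct.induction_on with
  | zero => exact ⟨0, map_zero _⟩
  | tmul s a => obtain ⟨s, rfl⟩ := hπ s; exact ⟨s ⊗ₜ a, rfl⟩
  | add p q hp hq =>
    obtain ⟨p, rfl⟩ := hp
    obtain ⟨q, rfl⟩ := hq
    exact ⟨p + q, map_add _ _ _⟩

variable {π}

theorem qm_mul_eq_zero (hπ : Function.Surjective π) (hN : RingHom.ker π ^ 2 = ⊥) {x y : S ⊗[R] M}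
    (hx : qm π M x = 0) (hy : qm π M y = 0) : x * y = 0 := by
  have h := Ideal.mul_mem_mul (MultType.mem_map_ker π hπ x hx) (MultType.mem_map_ker π hπ y hy)
  rw [← Ideal.map_mul, ← pow_two, hN, Ideal.map_bot] at h
  exact h

/-- A linear map, with coefficients extended to `S`. -/
abbrev sl (S : Type u) [CommRing S] [Algebra R S] (r : M' →ₗ[R] M) : S ⊗[R] M' →ₗ[R] S ⊗[R] M := r.lTensor S

theorem qm_sl (r : M' →ₗ[R] M) (z : S ⊗[R] M') : qm π M (sl S r z) = sl S₀ r (qm π M' z) := by
  induction z using TensorProduct.induction_on with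
  | zero => simp
  | tmul s a => simp
  | add p q hp hq => simp only [map_add, hp, hq]

theorem sl_mul {j : M →ₐ[R] M'} {r : M' →ₗ[R] M} (hr : ∀ a z, r (j a * z) = a * r z) (x : S ⊗[R] M)
    (z : S ⊗[R] M') : sl S r (sm S j x * z) = x * sl S r z := by
  induction x using TensorProduct.induction_on with
  | zero => simp
  | add p q hp hq => simp only [map_add, add_mul, hp, hq]
  | tmul s a =>
    induction z using TensorProduct.induction_on with
    | zero => simp
    | add p q hp hq => simp only [map_add, mul_add, hp, hq]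
    | tmul t b => simp [hr]

theorem sl_one {r : M' →ₗ[R] M} (h1 : r 1 = 1) : sl S r (1 : S ⊗[R] M') = 1 := by
  simp [Algebra.TensorProduct.one_def, h1]

variable (π) in
/-- The pairs `(a, s)` with `s ≡ j a`. -/
abbrev E (j : M →ₐ[R] M') : Subalgebra R ((S ⊗[R] M) × (S ⊗[R] M')) := FibRing ((qm π M').comp (sm S j)) (qm π M')

theorem sl_retract {j : M →ₐ[R] M'} {r : M' →ₗ[R] M} (hr : ∀ a z, r (j a * z) = a * r z) (h1 : r 1 = 1)
    (x : S ⊗[R] M) : sl S r (sm S j x) = x := by
  rw [← _root_.mul_one (sm S j x), sl_mul hr, sl_one h1, _root_.mul_one]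

theorem qm_sl_snd {j : M →ₐ[R] M'} {r : M' →ₗ[R] M} (hr : ∀ a z, r (j a * z) = a * r z) (h1 : r 1 = 1)
    (e : E π j) : qm π M (sl S r (fr2 _ _ e)) = qm π M (fr1 _ _ e) := by
  rw [qm_sl, ← fr_spec e, AlgHom.comp_apply, ← qm_sl, sl_retract hr h1]

/-- A retraction is multiplicative on such pairs. -/
def retr {j : M →ₐ[R] M'} {r : M' →ₗ[R] M} (hπ : Function.Surjective π) (hN : RingHom.ker π ^ 2 = ⊥)
    (hr : ∀ a z, r (j a * z) = a * r z) (h1 : r 1 = 1) : E π j →ₐ[R] S ⊗[R] M :=
  AlgHom.ofLinearMap (sl S r ∘ₗ (fr2 ((qm π M').comp (sm S j)) (qm π M')).toLinearMap)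
    (by
      show sl S r (fr2 _ _ (1 : E π j)) = 1
      rw [map_one, sl_one h1])
    (by
      intro e e'
      show sl S r (fr2 _ _ (e * e')) = sl S r (fr2 _ _ e) * sl S r (fr2 _ _ e')
      have hd : ∀ d : E π j, fr2 _ _ d = sm S j (fr1 _ _ d) + (fr2 _ _ d - sm S j (fr1 _ _ d)) := fun d => by abel
      have hk : ∀ d : E π j, qm π M' (fr2 _ _ d - sm S j (fr1 _ _ d)) = 0 := fun d => by
        rw [map_sub, sub_eq_zero, ← fr_spec d]; rfl
      rw [map_mul, hd e, hd e']
      set k := fr2 _ _ e - sm S j (fr1 _ _ e)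
      set k' := fr2 _ _ e' - sm S j (fr1 _ _ e')
      set a := fr1 _ _ e
      set a' := fr1 _ _ e'
      have hkk : k * k' = 0 := qm_mul_eq_zero hπ hN (hk e) (hk e')
      have hrk : sl S r k * sl S r k' = 0 := qm_mul_eq_zero hπ hN
        (by rw [qm_sl, hk e, map_zero]) (by rw [qm_sl, hk e', map_zero])
      have e1 : (sm S j a + k) * (sm S j a' + k') = sm S j a * (sm S j a' + k') + sm S j a' * k + k * k' := by ring
      rw [e1, hkk, add_zero, map_add, sl_mul hr, sl_mul hr, map_add, map_add, sl_retract hr h1, sl_retract hr h1]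
      rw [add_mul, mul_add (sl S r k), hrk, add_zero, mul_comm (sl S r k) a'])

theorem retr_apply {j : M →ₐ[R] M'} {r : M' →ₗ[R] M} (hπ : Function.Surjective π) (hN : RingHom.ker π ^ 2 = ⊥)
    (hr : ∀ a z, r (j a * z) = a * r z) (h1 : r 1 = 1) (e : E π j) : retr hπ hN hr h1 e = sl S r (fr2 _ _ e) := rfl

/-- The map of pairs induced by a square. -/
def emap {j : M →ₐ[R] M'} {k : N →ₐ[R] N'} (u : M →ₐ[R] N) (v : M' →ₐ[R] N') (h : v.comp j = k.comp u) :
    E π j →ₐ[R] E π k :=
  (((sm S u).comp (fr1 ((qm π M').comp (sm S j)) (qm π M'))).prod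
    ((sm S v).comp (fr2 ((qm π M').comp (sm S j)) (qm π M')))).codRestrict (E π k) fun e => by
      show qm π N' (sm S k (sm S u (fr1 _ _ e))) = qm π N' (sm S v (fr2 _ _ e))
      have e₁ : sm S k (sm S u (fr1 _ _ e)) = sm S v (sm S j (fr1 _ _ e)) :=
        DFunLike.congr_fun ((sm_sm k u).trans ((congrArg (sm S) h.symm).trans (sm_sm v j).symm)) _
      have e₂ : ∀ x, qm π N' (sm S v x) = sm S₀ v (qm π M' x) := fun x => DFunLike.congr_fun (qm_sm (π := π) v) x
      rw [e₁, e₂, e₂]
      exact congrArg _ (fr_spec e)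

theorem retr_emap {j : M →ₐ[R] M'} {k : N →ₐ[R] N'} (u : M →ₐ[R] N) (v : M' →ₐ[R] N') (h : v.comp j = k.comp u)
    (w : M →ₐ[R] N) {r : M' →ₗ[R] M} {t : N' →ₗ[R] N} (hπ : Function.Surjective π) (hN : RingHom.ker π ^ 2 = ⊥)
    (hr : ∀ a z, r (j a * z) = a * r z) (h1 : r 1 = 1) (ht : ∀ a z, t (k a * z) = a * t z) (ht1 : t 1 = 1)
    (hw : t ∘ₗ v.toLinearMap = w.toLinearMap ∘ₗ r) :
    (retr hπ hN ht ht1).comp (emap (π := π) u v h) = (sm S w).comp (retr hπ hN hr h1) := by
  refine AlgHom.ext fun e => ?_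
  show sl S t (sm S v (fr2 _ _ e)) = sm S w (sl S r (fr2 _ _ e))
  induction fr2 ((qm π M').comp (sm S j)) (qm π M') e using TensorProduct.induction_on with
  | zero => simp
  | add p q hp hq => simp only [map_add, hp, hq]
  | tmul s a =>
    have := LinearMap.congr_fun hw a
    simp only [LinearMap.comp_apply, AlgHom.toLinearMap_apply] at this
    simp [this]

end Maps

variable {A : Type u} [CommRing A] [Bialgebra R A] {G : Over (Spec (CommRingCat.of R))} [GrpObj G]

local notation "A2" => A ⊗[R] A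
local notation "A3" => (A ⊗[R] A) ⊗[R] A
local notation "i₁" => (Algebra.TensorProduct.includeLeft : A →ₐ[R] A ⊗[R] A)
local notation "i₂" => (Algebra.TensorProduct.includeRight : A →ₐ[R] A ⊗[R] A)
local notation "Δ" => Bialgebra.comulAlgHom R A

/-- An `S`-point of the homomorphisms from `Spec A` to `G`. -/
def IsH (S : Type u) [CommRing S] [Algebra R S] (f : pt R (S ⊗[R] A) ⟶ G) : Prop :=
  push (sm S Δ) f = push (sm S i₁) f * push (sm S i₂) f

variable {S S₀ : Type u} [CommRing S] [Algebra R S] [CommRing S₀] [Algebra R S₀]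

theorem isH_push (σ : S →ₐ[R] S₀) {f : pt R (S ⊗[R] A) ⟶ G} (hf : IsH S f) : IsH S₀ (push (qm σ A) f) := by
  show push (sm S₀ Δ) (push (qm σ A) f) = push (sm S₀ i₁) (push (qm σ A) f) * push (sm S₀ i₂) (push (qm σ A) f)
  simp only [push_push, ← qm_sm]
  simp only [← push_push, ← map_mul]
  rw [hf]

/-- A homomorphism modulo a square-zero ideal is congruent to a homomorphism. -/
theorem exists_isH_of_congr (π : S →ₐ[R] S₀) (hπ : Function.Surjective π) (hN : RingHom.ker π ^ 2 = ⊥)
    (l : A →ₗ[R] R) (h1 : l 1 = 1) (hr : MultType.IsRightInt l)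
    (f : pt R (S ⊗[R] A) ⟶ G) (hf : IsH S₀ (push (qm π A) f)) :
    ∃ f', IsH S f' ∧ push (qm π A) f' = push (qm π A) f := by
  let jj : A2 →ₐ[R] A3 := Algebra.TensorProduct.includeLeft
  let f123 : A2 →ₐ[R] A3 := Algebra.TensorProduct.map Δ (AlgHom.id R A)
  let f23 : A2 →ₐ[R] A3 := Algebra.TensorProduct.map i₂ (AlgHom.id R A)
  let f123' : A2 →ₐ[R] A3 := Algebra.TensorProduct.lift (jj.comp i₁) (f23.comp Δ) fun _ _ => Commute.all _ _
  let r : A2 →ₗ[R] A := (TensorProduct.rid R A).toLinearMap ∘ₗ l.lTensor A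
  let Λ : A3 →ₗ[R] A2 := (TensorProduct.rid R A2).toLinearMap ∘ₗ l.lTensor A2
  have hr' : ∀ x a, r (x ⊗ₜ a) = l a • x := fun x a => by simp [r]
  have hΛ : ∀ x a, Λ (x ⊗ₜ a) = l a • x := fun x a => by simp [Λ]
  have hrj : ∀ a z, r (i₁ a * z) = a * r z := by
    intro a z
    induction z using TensorProduct.induction_on with
    | zero => simp
    | tmul x y => simp [hr']
    | add p q hp hq => rw [mul_add, map_add, hp, hq, map_add, mul_add]
  have hΛj : ∀ a z, Λ (jj a * z) = a * Λ z := by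
    intro a z
    induction z using TensorProduct.induction_on with
    | zero => simp
    | tmul x y => simp [jj, hΛ]
    | add p q hp hq => rw [mul_add, map_add, hp, hq, map_add, mul_add]
  have hr1 : r 1 = 1 := by simp [Algebra.TensorProduct.one_def, hr', h1]
  have hΛ1 : Λ 1 = 1 := by simp [Algebra.TensorProduct.one_def, hΛ, h1]
  have hrint : ∀ y, r (Δ y) = l y • (1 : A) := fun y => by
    have h := congr(TensorProduct.lid R A $(hr y))
    rw [← (Coalgebra.Repr.arbitrary R y).eq] at h
    simp only [map_sum, TensorProduct.comm_tmul, LinearMap.rTensor_tmul, TensorProduct.lid_tmul] at h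
    rw [← h, Bialgebra.comulAlgHom_apply, ← (Coalgebra.Repr.arbitrary R y).eq, map_sum]
    simp [hr']
  -- the four squares
  have q₀ : jj.comp i₁ = jj.comp i₁ := rfl
  have qβ : f123.comp i₁ = jj.comp Δ := AlgHom.ext fun x => by simp [f123, jj]
  have qγ : f23.comp i₁ = jj.comp i₂ := AlgHom.ext fun x => by simp [f23, jj]
  have qδ : f123'.comp i₁ = jj.comp i₁ := AlgHom.ext fun x => by simp [f123']
  have l₀ : Λ ∘ₗ jj.toLinearMap = (AlgHom.id R A2).toLinearMap := LinearMap.ext fun z => by
    show Λ (z ⊗ₜ[R] (1 : A)) = z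
    rw [hΛ, h1, one_smul]
  have lβ : Λ ∘ₗ f123.toLinearMap = (Δ).toLinearMap ∘ₗ r := TensorProduct.ext' fun x y => by
    simp [f123, hΛ, hr']
  have lγ : Λ ∘ₗ f23.toLinearMap = (i₂).toLinearMap ∘ₗ r := TensorProduct.ext' fun x y => by
    simp [f23, hΛ, hr', TensorProduct.tmul_smul]
  have lδ : Λ ∘ₗ f123'.toLinearMap = (i₁).toLinearMap ∘ₗ r := TensorProduct.ext' fun x y => by
    show Λ (f123' (x ⊗ₜ y)) = i₁ (r (x ⊗ₜ y))
    have e : ∀ z, Λ (jj (x ⊗ₜ 1) * f23 z) = x ⊗ₜ r z := by
      intro z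
      induction z using TensorProduct.induction_on with
      | zero => simp
      | tmul p q => simp [f23, jj, hΛ, hr', TensorProduct.tmul_smul]
      | add p q hp hq => simp only [map_add, mul_add, hp, hq, TensorProduct.tmul_add]
    simp only [f123', Algebra.TensorProduct.lift_tmul, AlgHom.comp_apply]
    rw [show i₁ x = x ⊗ₜ 1 from rfl, e, hrint, hr', TensorProduct.tmul_smul]
    rfl
  have hcoassoc : f123'.comp Δ = f123.comp Δ := AlgHom.ext fun a => by
    have h := Coalgebra.coassoc_symm_apply (R := R) a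
    show f123' (Coalgebra.comul a) = f123 (Coalgebra.comul a)
    have e1 : ∀ z, f123 z = (Coalgebra.comul (R := R) (A := A)).rTensor A z := by
      intro z
      induction z using TensorProduct.induction_on with
      | zero => simp
      | tmul x y => simp [f123]
      | add a b ha hb => rw [map_add, map_add, ha, hb]
    have e2 : ∀ z, f123' z =
        (TensorProduct.assoc R A A A).symm ((Coalgebra.comul (R := R) (A := A)).lTensor A z) := by
      intro z
      induction z using TensorProduct.induction_on with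
      | zero => simp
      | tmul x y =>
        simp only [f123', f23, jj, Algebra.TensorProduct.lift_tmul, AlgHom.comp_apply, LinearMap.lTensor_tmul,
          Bialgebra.comulAlgHom_apply]
        rw [← (Coalgebra.Repr.arbitrary R y).eq]
        simp [map_sum, Finset.mul_sum, TensorProduct.tmul_sum]
      | add a b ha hb => rw [map_add, map_add, map_add, ha, hb]
    rw [e1, e2, h]
  -- the defect
  let D : pt R (S ⊗[R] A2) ⟶ G := push (sm S i₁) f * push (sm S i₂) f * (push (sm S Δ) f)⁻¹
  have hD : push (qm π A2) D = 1 := by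
    simp only [D, map_mul, map_inv, push_push, qm_sm]
    simp only [← push_push]
    rw [← hf, mul_inv_cancel]
  obtain ⟨z, hz1, hz2⟩ := exists_glue (p₁ := (qm π A2).comp (sm S i₁)) (p₂ := qm π A2) (qm_surjective π hπ)
    (1 : pt R (S ⊗[R] A) ⟶ G) D (by rw [map_one, hD])
  let ρ := retr (π := π) (j := i₁) hπ hN hrj hr1
  let ρ' := retr (π := π) (j := jj) hπ hN hΛj hΛ1
  let c : pt R (S ⊗[R] A) ⟶ G := push ρ z
  have hc : push (qm π A) c = 1 := by
    rw [push_push, show (qm π A).comp ρ = (qm π A).comp (fr1 _ _) from AlgHom.ext fun e => qm_sl_snd hrj hr1 e,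
      ← push_push, hz1, map_one]
  -- lifting `f₁` to the pairs
  let α : S ⊗[R] A2 →ₐ[R] E π jj := ((AlgHom.id R (S ⊗[R] A2)).prod (sm S jj)).codRestrict (E π jj) fun t => rfl
  let z₁ := emap (π := π) i₁ jj q₀
  let zβ := emap (π := π) Δ f123 qβ
  let zγ := emap (π := π) i₂ f23 qγ
  let zδ := emap (π := π) i₁ f123' qδ
  let w := push α (push (sm S i₁) f)
  have e₁ : ∀ (u : A →ₐ[R] A2) (v : A2 →ₐ[R] A3) (h : v.comp i₁ = jj.comp u),
      push (fr1 ((qm π A3).comp (sm S jj)) (qm π A3)) (push (emap (π := π) u v h) z) = 1 := fun u v h => by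
    rw [push_push, show (fr1 ((qm π A3).comp (sm S jj)) (qm π A3)).comp (emap (π := π) u v h) = (sm S u).comp (fr1 _ _) from rfl,
      ← push_push, hz1, map_one]
  have e₂ : ∀ (u : A →ₐ[R] A2) (v : A2 →ₐ[R] A3) (h : v.comp i₁ = jj.comp u),
      push (fr2 ((qm π A3).comp (sm S jj)) (qm π A3)) (push (emap (π := π) u v h) z) = push (sm S v) D := fun u v h => by
    rw [push_push, show (fr2 ((qm π A3).comp (sm S jj)) (qm π A3)).comp (emap (π := π) u v h) = (sm S v).comp (fr2 _ _) from rfl,
      ← push_push, hz2]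
  have hid : push z₁ z * push zβ z = w * push zγ z * w⁻¹ * push zδ z := by
    refine glue_ext (qm_surjective π hπ) ?_ ?_
    · simp only [map_mul, map_inv, z₁, zβ, zγ, zδ, e₁]
      group
    · simp only [map_mul, map_inv, z₁, zβ, zγ, zδ, e₂, w, D, push_push,
        show (fr2 ((qm π A3).comp (sm S jj)) (qm π A3)).comp α = sm S jj from rfl, ← AlgHom.comp_assoc, sm_sm]
      simp only [qβ, qγ, qδ, hcoassoc,
        show f123.comp i₂ = (Algebra.TensorProduct.includeRight : A →ₐ[R] A3) from
          AlgHom.ext fun x => by simp [f123, Algebra.TensorProduct.one_def],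
        show f23.comp i₂ = (Algebra.TensorProduct.includeRight : A →ₐ[R] A3) from
          AlgHom.ext fun x => by simp [f23, Algebra.TensorProduct.one_def],
        show f123'.comp i₂ = f23.comp Δ from AlgHom.ext fun x => by simp [f123']]
      group
  have hkey : D * push (sm S Δ) c = push (sm S i₁) f * push (sm S i₂) c * (push (sm S i₁) f)⁻¹ * push (sm S i₁) c := by
    have h := congrArg (push ρ') hid
    simp only [map_mul, map_inv, w, push_push] at h
    have k₀ : ρ'.comp z₁ = fr2 _ _ := by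
      refine AlgHom.ext fun e => ?_
      show sl S Λ (sm S jj (fr2 _ _ e)) = fr2 _ _ e
      exact sl_retract hΛj hΛ1 _
    have kα : ρ'.comp α = AlgHom.id R _ := AlgHom.ext fun t => sl_retract hΛj hΛ1 t
    rw [k₀, retr_emap Δ f123 qβ Δ hπ hN hrj hr1 hΛj hΛ1 lβ, retr_emap i₂ f23 qγ i₂ hπ hN hrj hr1 hΛj hΛ1 lγ,
      retr_emap i₁ f123' qδ i₁ hπ hN hrj hr1 hΛj hΛ1 lδ, ← AlgHom.comp_assoc ρ', kα, AlgHom.id_comp] at h
    simp only [← push_push] at h
    rw [hz2] at h
    exact h
  refine ⟨c⁻¹ * f, ?_, by rw [map_mul, map_inv, hc, inv_one, _root_.one_mul]⟩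
  show push (sm S Δ) (c⁻¹ * f) = push (sm S i₁) (c⁻¹ * f) * push (sm S i₂) (c⁻¹ * f)
  simp only [map_mul, map_inv]
  have h2 : (push (sm S Δ) f)⁻¹ * push (sm S Δ) c =
      (push (sm S i₂) f)⁻¹ * push (sm S i₂) c * (push (sm S i₁) f)⁻¹ * push (sm S i₁) c := by
    calc (push (sm S Δ) f)⁻¹ * push (sm S Δ) c
        = (push (sm S i₂) f)⁻¹ * (push (sm S i₁) f)⁻¹ * (D * push (sm S Δ) c) := by simp only [D]; group
      _ = _ := by rw [hkey]; group
  apply _root_.inv_injective
  simp only [_root_.mul_inv_rev, _root_.inv_inv]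
  rw [h2]
  group

end Groth.Agent.SmoothHomLift
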