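import Groth.Agent.FerrandPush.Cat
import Mathlib.AlgebraicGeometry.Group.Affine
import Mathlib.RingTheory.TensorProduct.Maps
/-!
Points of a group scheme with values in algebras over the base, and their gluing along fibre products of rings.
-/

set_option autoImplicit false
set_option backward.isDefEq.respectTransparency false
set_option backward.isDefEq.respectTransparency.types false
set_option linter.style.haveILetI false
set_option linter.unusedSectionVars false

universe u

open CategoryTheory CategoryTheory.Limits MonoidalCategory CartesianMonoidalCategory MonObj GrpObj AlgebraicGeometry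

noncomputable section

namespace Groth.Agent.SmoothHomLift

variable (R : Type u) [CommRing R]

/-- The spectrum of an algebra, over the base. -/
abbrev pt (T : Type u) [CommRing T] [Algebra R T] : Over (Spec (CommRingCat.of R)) :=
  Over.mk (Spec.map (CommRingCat.ofHom (algebraMap R T)))

variable {R}
variable {T T' T'' : Type u} [CommRing T] [Algebra R T] [CommRing T'] [Algebra R T'] [CommRing T''] [Algebra R T'']

/-- The map of spectra of an algebra map. -/
def tm (φ : T →ₐ[R] T') : pt R T' ⟶ pt R T :=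
  Over.homMk (Spec.map (CommRingCat.ofHom φ.toRingHom)) (by
    show Spec.map _ ≫ Spec.map _ = Spec.map _
    rw [← Spec.map_comp]
    congr 1
    exact CommRingCat.hom_ext (RingHom.ext fun r => φ.commutes r))

theorem tm_left (φ : T →ₐ[R] T') : (tm φ).left = Spec.map (CommRingCat.ofHom φ.toRingHom) := rfl

theorem tm_id : tm (AlgHom.id R T) = 𝟙 (pt R T) := by
  apply Over.OverMorphism.ext
  exact Spec.map_id _

theorem tm_comp (ψ : T' →ₐ[R] T'') (φ : T →ₐ[R] T') : tm (ψ.comp φ) = tm ψ ≫ tm φ := by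
  apply Over.OverMorphism.ext
  show Spec.map _ = Spec.map _ ≫ Spec.map _
  rw [← Spec.map_comp]
  rfl

variable {G : Over (Spec (CommRingCat.of R))} [GrpObj G]

/-- Functoriality of the points. -/
def push (φ : T →ₐ[R] T') : (pt R T ⟶ G) →* (pt R T' ⟶ G) where
  toFun x := tm φ ≫ x
  map_one' := MonObj.comp_one _
  map_mul' _ _ := MonObj.comp_mul _ _ _

theorem push_push (ψ : T' →ₐ[R] T'') (φ : T →ₐ[R] T') (x : pt R T ⟶ G) :
    push ψ (push φ x) = push (ψ.comp φ) x := by
  show tm ψ ≫ tm φ ≫ x = tm (ψ.comp φ) ≫ x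
  rw [tm_comp, Category.assoc]

theorem push_id (x : pt R T ⟶ G) : push (AlgHom.id R T) x = x := by
  show tm (AlgHom.id R T) ≫ x = x
  rw [tm_id, Category.id_comp]

theorem push_congr {φ ψ : T →ₐ[R] T'} (h : φ = ψ) (x : pt R T ⟶ G) : push φ x = push ψ x := by rw [h]

section Glue

variable {T₁ T₂ B : Type u} [CommRing T₁] [Algebra R T₁] [CommRing T₂] [Algebra R T₂] [CommRing B] [Algebra R B]
  (p₁ : T₁ →ₐ[R] B) (p₂ : T₂ →ₐ[R] B)

/-- The fibre product of two algebras over a third. -/
abbrev FibRing : Subalgebra R (T₁ × T₂) :=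
  AlgHom.equalizer (p₁.comp (AlgHom.fst R T₁ T₂)) (p₂.comp (AlgHom.snd R T₁ T₂))

/-- The first projection of a fibre product. -/
def fr1 : FibRing p₁ p₂ →ₐ[R] T₁ := (AlgHom.fst R T₁ T₂).comp (FibRing p₁ p₂).val

/-- The second projection of a fibre product. -/
def fr2 : FibRing p₁ p₂ →ₐ[R] T₂ := (AlgHom.snd R T₁ T₂).comp (FibRing p₁ p₂).val

variable {p₁ p₂}

theorem fr_spec (e : FibRing p₁ p₂) : p₁ (fr1 p₁ p₂ e) = p₂ (fr2 p₁ p₂ e) := e.2

theorem isPushout_fib (hp₂ : Function.Surjective p₂) :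
    IsPushout (Spec.map (CommRingCat.ofHom p₂.toRingHom)) (Spec.map (CommRingCat.ofHom p₁.toRingHom))
      (Spec.map (CommRingCat.ofHom (fr2 p₁ p₂).toRingHom)) (Spec.map (CommRingCat.ofHom (fr1 p₁ p₂).toRingHom)) :=
  (⟨(fr1 p₁ p₂).toRingHom, (fr2 p₁ p₂).toRingHom, p₂.toRingHom, p₁.toRingHom, hp₂, fun e => fr_spec e,
    fun x y h₁ h₂ => Subtype.ext (Prod.ext h₁ h₂),
    fun b a h => ⟨⟨(b, a), h⟩, rfl, rfl⟩⟩ : FerrandPush.Cart (FibRing p₁ p₂) T₁ T₂ B).isPushout_Spec

/-- Points glue along fibre products of rings. -/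
theorem exists_glue (hp₂ : Function.Surjective p₂) (x : pt R T₁ ⟶ G) (y : pt R T₂ ⟶ G)
    (h : push p₁ x = push p₂ y) :
    ∃ z : pt R (FibRing p₁ p₂) ⟶ G, push (fr1 p₁ p₂) z = x ∧ push (fr2 p₁ p₂) z = y := by
  have hP := isPushout_fib (p₁ := p₁) hp₂
  have hw : Spec.map (CommRingCat.ofHom p₂.toRingHom) ≫ y.left = Spec.map (CommRingCat.ofHom p₁.toRingHom) ≫ x.left :=
    (congrArg CommaMorphism.left h).symm
  refine ⟨Over.homMk (hP.desc y.left x.left hw) (hP.hom_ext ?_ ?_), ?_, ?_⟩
  · erw [IsPushout.inl_desc_assoc]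
    rw [Over.w y]
    exact (Over.w (tm (fr2 p₁ p₂))).symm
  · erw [IsPushout.inr_desc_assoc]
    rw [Over.w x]
    exact (Over.w (tm (fr1 p₁ p₂))).symm
  · exact Over.OverMorphism.ext (IsPushout.inr_desc _ _ _ _)
  · exact Over.OverMorphism.ext (IsPushout.inl_desc _ _ _ _)

/-- Points with values in a fibre product are determined by their components. -/
theorem glue_ext (hp₂ : Function.Surjective p₂) {z z' : pt R (FibRing p₁ p₂) ⟶ G}
    (h₁ : push (fr1 p₁ p₂) z = push (fr1 p₁ p₂) z') (h₂ : push (fr2 p₁ p₂) z = push (fr2 p₁ p₂) z') : z = z' :=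
  Over.OverMorphism.ext ((isPushout_fib (p₁ := p₁) hp₂).hom_ext (congrArg CommaMorphism.left h₂)
    (congrArg CommaMorphism.left h₁))

end Glue

end Groth.Agent.SmoothHomLift
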